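import Groth.Agent.SpecSeq.RightDerivedPlus

/-!
# Dimension shifting for right derived functors
-/

set_option autoImplicit false
set_option linter.all false
set_option backward.isDefEq.respectTransparency false
set_option backward.defeqAttrib.useBackward true

universe v v' u u'

open CategoryTheory CategoryTheory.Limits

namespace Groth.Agent.EtCmp

variable {C : Type u} [Category.{v} C] [Abelian C] [EnoughInjectives C] [HasInjectiveResolutions C]
  {D : Type u'} [Category.{v'} D] [Abelian D] (F : C ⥤ D) [F.Additive] [PreservesFiniteLimits F]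

/-- `R¹F` vanishes on the kernel of a map out of an injective object which stays epi after `F`. -/
theorem isZero_rightDerived_one_of_injective {S : ShortComplex C} (hS : S.ShortExact) [Injective S.X₂]
    (h : Epi (F.map S.g)) : IsZero ((F.rightDerived 1).obj S.X₁) := by
  haveI := hS.mono_f
  haveI := hS.epi_g
  let R := injectiveResolution S.X₁
  let d : R.cocomplex.X 0 ⟶ R.cocomplex.X 1 := R.cocomplex.d 0 1
  let d' : R.cocomplex.X 1 ⟶ R.cocomplex.X 2 := R.cocomplex.d 1 2
  have hdd : d ≫ d' = 0 := R.cocomplex.d_comp_d _ _ _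
  let e : R.cocomplex.X 0 ⟶ kernel d' := kernel.lift d' d hdd
  haveI he : Epi e := (ShortComplex.exact_iff_epi_kernel_lift _).1 (R.exact_succ 0)
  have hιd : R.ι.f 0 ≫ d = 0 := R.ι_f_zero_comp_complex_d
  have hιe : R.ι.f 0 ≫ e = 0 := by
    rw [← cancel_mono (kernel.ι d'), Category.assoc, kernel.lift_ι, hιd, zero_comp]
  have hker : (ShortComplex.mk (R.ι.f 0) d hιd).Exact :=
    ShortComplex.exact_of_f_is_kernel _ R.isLimitKernelFork
  have hker' : (ShortComplex.mk (R.ι.f 0) e hιe).Exact :=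
    (ShortComplex.exact_iff_of_epi_of_isIso_of_mono
      (S₁ := ShortComplex.mk (R.ι.f 0) e hιe) (S₂ := ShortComplex.mk (R.ι.f 0) d hιd)
      { τ₁ := 𝟙 _, τ₂ := 𝟙 _, τ₃ := kernel.ι d' }).2 hker
  let α : S.X₂ ⟶ R.cocomplex.X 0 := Injective.factorThru (R.ι.f 0) S.f
  have hα : S.f ≫ α = R.ι.f 0 := Injective.comp_factorThru _ _
  let δ : R.cocomplex.X 0 ⟶ S.X₂ := Injective.factorThru S.f (R.ι.f 0)
  have hδ : R.ι.f 0 ≫ δ = S.f := Injective.comp_factorThru _ _
  let β : S.X₃ ⟶ kernel d' := hS.exact.desc (α ≫ e) (by rw [← Category.assoc, hα, hιe])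
  have hβ : S.g ≫ β = α ≫ e := hS.exact.g_desc _ _
  haveI : Epi (ShortComplex.mk (R.ι.f 0) e hιe).g := he
  let γ : kernel d' ⟶ S.X₃ := hker'.desc (δ ≫ S.g) (by
    show R.ι.f 0 ≫ δ ≫ S.g = 0
    rw [reassoc_of% hδ, S.zero])
  have hγ : e ≫ γ = δ ≫ S.g := hker'.g_desc _ _
  let h₀ : kernel d' ⟶ R.cocomplex.X 0 := hker'.desc (δ ≫ α - 𝟙 _) (by
    show R.ι.f 0 ≫ (δ ≫ α - 𝟙 _) = 0
    rw [Preadditive.comp_sub, reassoc_of% hδ, hα, Category.comp_id, sub_self])
  have hh₀ : e ≫ h₀ = δ ≫ α - 𝟙 _ := hker'.g_desc _ _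
  have key : γ ≫ β = 𝟙 _ + h₀ ≫ e := by
    rw [← cancel_epi e, reassoc_of% hγ, hβ, Preadditive.comp_add, Category.comp_id, reassoc_of% hh₀,
      Preadditive.sub_comp, Category.assoc, Category.id_comp, add_sub_cancel]
  haveI : Epi (F.map e) := Preadditive.epi_of_cancel_zero _ fun {Z} k hk => by
    have h1 : F.map β ≫ k = 0 := by
      rw [← cancel_epi (F.map S.g), ← Category.assoc, ← F.map_comp, hβ, F.map_comp, Category.assoc, hk,
        comp_zero, comp_zero]
    have h2 : F.map (γ ≫ β) ≫ k = 0 := by rw [F.map_comp, Category.assoc, h1, comp_zero]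
    rwa [key, F.map_add, Preadditive.add_comp, F.map_id, Category.id_comp, F.map_comp, Category.assoc, hk,
      comp_zero, add_zero] at h2
  have hex : ((F.mapHomologicalComplex _).obj R.cocomplex).ExactAt 1 := by
    rw [HomologicalComplex.exactAt_iff' _ 0 1 2 (by simp) (by simp),
      ShortComplex.exact_iff_epi_kernel_lift]
    have : kernel.lift (F.map d') (F.map d) (by rw [← F.map_comp, hdd, F.map_zero]) =
        F.map e ≫ kernelComparison d' F := by
      rw [← cancel_mono (kernel.ι (F.map d')), kernel.lift_ι, Category.assoc, kernelComparison_comp_ι,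
        ← F.map_comp, kernel.lift_ι]
    show Epi (kernel.lift (F.map d') (F.map d) _)
    rw [this]
    infer_instance
  rw [HomologicalComplex.exactAt_iff_isZero_homology] at hex
  exact hex.of_iso (R.isoRightDerivedObj F 1)

/-- `R¹F` vanishes on the kernel of a map out of an acyclic object which stays epi after `F`. -/
theorem isZero_rightDerived_one {S : ShortComplex C} (hS : S.ShortExact)
    (h₂ : IsZero ((F.rightDerived 1).obj S.X₂)) (h : Epi (F.map S.g)) :
    IsZero ((F.rightDerived 1).obj S.X₁) := by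
  haveI := hS.mono_f
  haveI := hS.epi_g
  let i : S.X₂ ⟶ Injective.under S.X₂ := Injective.ι S.X₂
  let p : Injective.under S.X₂ ⟶ cokernel (S.f ≫ i) := cokernel.π _
  let T : ShortComplex C := ShortComplex.mk i (cokernel.π i) (cokernel.condition i)
  have hT : T.ShortExact :=
    { exact := ShortComplex.exact_cokernel _
      mono_f := inferInstanceAs (Mono (Injective.ι S.X₂))
      epi_g := inferInstanceAs (Epi (cokernel.π _)) }
  let m : S.X₃ ⟶ cokernel (S.f ≫ i) := hS.exact.desc (i ≫ p) (by rw [← Category.assoc]; exact cokernel.condition _)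
  have hm : S.g ≫ m = i ≫ p := hS.exact.g_desc _ _
  let r : cokernel (S.f ≫ i) ⟶ cokernel i := cokernel.desc _ (cokernel.π i) (by
    rw [Category.assoc, cokernel.condition, comp_zero])
  have hr : p ≫ r = cokernel.π i := cokernel.π_desc _ _ _
  have hmr : m ≫ r = 0 := by
    rw [← cancel_epi S.g, reassoc_of% hm, hr, cokernel.condition, comp_zero]
  have hp : (ShortComplex.mk (S.f ≫ i) p (cokernel.condition _)).Exact := ShortComplex.exact_cokernel _
  haveI : Mono m := Preadditive.mono_of_cancel_zero _ fun {Z} x hx => by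
    obtain ⟨Z', q, _, b, hb⟩ := surjective_up_to_refinements_of_epi S.g x
    have hbp : (b ≫ i) ≫ p = 0 := by
      rw [Category.assoc, ← hm, ← Category.assoc, ← hb, Category.assoc, hx, comp_zero]
    obtain ⟨Z'', q', _, a, ha⟩ := hp.exact_up_to_refinements (b ≫ i) hbp
    have ha' : q' ≫ b = a ≫ S.f := by
      rw [← cancel_mono i, Category.assoc, Category.assoc]
      exact ha
    rw [← cancel_epi q, ← cancel_epi q', comp_zero, comp_zero, hb, reassoc_of% ha', S.zero, comp_zero]
  have hQ : (ShortComplex.mk m r hmr).Exact := by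
    rw [ShortComplex.exact_iff_exact_up_to_refinements]
    intro Z y hy
    obtain ⟨Z', q, hq, j, hj⟩ := surjective_up_to_refinements_of_epi p y
    have hj0 : j ≫ cokernel.π i = 0 := by
      rw [← hr, ← Category.assoc, ← hj, Category.assoc]
      show q ≫ y ≫ r = 0
      rw [show y ≫ r = 0 from hy, comp_zero]
    obtain ⟨Z'', q', _, b, hb⟩ := hT.exact.exact_up_to_refinements j hj0
    refine ⟨Z'', q' ≫ q, epi_comp _ _, b ≫ S.g, ?_⟩
    show (q' ≫ q) ≫ y = (b ≫ S.g) ≫ m
    rw [Category.assoc, hj, Category.assoc, hm, ← Category.assoc, hb, Category.assoc]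
  have hp' : Epi (F.map p) := by
    haveI hπ : Epi (F.map (cokernel.π i)) := SpecSeq.epi_map_of_isZero_rightDerived_one hT h₂
    haveI : Mono (F.map m) := inferInstance
    have hFQ := hQ.map_of_mono_of_preservesKernel F ‹Mono m› inferInstance
    haveI : Epi (F.map r) := by
      haveI : Epi (F.map p ≫ F.map r) := by rw [← F.map_comp, hr]; exact hπ
      exact epi_of_epi (F.map p) (F.map r)
    haveI : Epi ((ShortComplex.mk m r hmr).map F).g := ‹Epi (F.map r)›
    refine Preadditive.epi_of_cancel_zero _ fun {Z} k hk => ?_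
    have h1 : F.map m ≫ k = 0 := by
      rw [← cancel_epi (F.map S.g), ← Category.assoc, ← F.map_comp, hm, F.map_comp, Category.assoc, hk,
        comp_zero, comp_zero]
    have h2 : F.map r ≫ hFQ.desc k h1 = k := hFQ.g_desc k h1
    have h3 : hFQ.desc k h1 = 0 := by
      refine (cancel_epi (F.map (cokernel.π i))).1 ?_
      rw [← hr, F.map_comp, Category.assoc, h2, hk, comp_zero]
    rw [← h2, h3, comp_zero]
  haveI : Injective (ShortComplex.mk (S.f ≫ i) p (cokernel.condition _)).X₂ :=
    inferInstanceAs (Injective (Injective.under S.X₂))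
  exact isZero_rightDerived_one_of_injective F (S := ShortComplex.mk (S.f ≫ i) p (cokernel.condition _))
    { exact := hp
      mono_f := inferInstanceAs (Mono (S.f ≫ i))
      epi_g := inferInstanceAs (Epi p) } hp'

/-- The degree shift along a short exact sequence with acyclic middle term. -/
theorem isZero_rightDerived_succ {S : ShortComplex C} (hS : S.ShortExact) (q : ℕ)
    (h₂ : ∀ n : ℕ, 0 < n → IsZero ((F.rightDerived n).obj S.X₂)) (hq : 0 < q)
    (h₃ : IsZero ((F.rightDerived q).obj S.X₃)) : IsZero ((F.rightDerived (q + 1)).obj S.X₁) := by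
  let _ := HasDerivedCategory.standard C
  let _ := HasDerivedCategory.standard D
  obtain ⟨e₂⟩ := SpecSeq.nonempty_rdSingle_iso F S.X₂ q
  obtain ⟨e₂'⟩ := SpecSeq.nonempty_rdSingle_iso F S.X₂ (q + 1)
  obtain ⟨e₃⟩ := SpecSeq.nonempty_rdSingle_iso F S.X₃ q
  obtain ⟨e₁⟩ := SpecSeq.nonempty_rdSingle_iso F S.X₁ (q + 1)
  obtain ⟨δ, hδ⟩ := SpecSeq.exists_isIso_rdSingle hS (q : ℤ) ((q + 1 : ℕ) : ℤ) (by push_cast; ring)
    ((h₂ q hq).of_iso e₂) ((h₂ (q + 1) q.succ_pos).of_iso e₂')
  exact (h₃.of_iso ((asIso δ).symm ≪≫ e₃)).of_iso e₁.symm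

/-- Dimension shifting along a class of objects. -/
theorem isZero_rightDerived_of_class (P : C → Prop)
    (h : ∀ A, P A → ∃ S : ShortComplex C, ∃ _ : S.ShortExact, Nonempty (S.X₁ ≅ A) ∧
      (∀ n : ℕ, 0 < n → IsZero ((F.rightDerived n).obj S.X₂)) ∧ Epi (F.map S.g) ∧ P S.X₃)
    (q : ℕ) (A : C) (hA : P A) : IsZero ((F.rightDerived (q + 1)).obj A) := by
  induction q generalizing A with
  | zero =>
    obtain ⟨S, hS, ⟨e⟩, h₂, hg, -⟩ := h A hA
    exact (isZero_rightDerived_one F hS (h₂ 1 Nat.one_pos) hg).of_iso ((F.rightDerived 1).mapIso e.symm)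
  | succ q ih =>
    obtain ⟨S, hS, ⟨e⟩, h₂, -, h₃⟩ := h A hA
    exact (isZero_rightDerived_succ F hS (q + 1) h₂ q.succ_pos (ih S.X₃ h₃)).of_iso
      ((F.rightDerived (q + 1 + 1)).mapIso e.symm)

end Groth.Agent.EtCmp
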