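import Groth.Agent.EtCmp.RDeg
import Groth.Agent.SiteCoh.ExtAcyclic
import Mathlib.Algebra.Homology.DerivedCategory.Ext.Map

/-!
# `Ext` and adjunctions: the acyclic case
-/

set_option autoImplicit false
set_option linter.all false
set_option backward.isDefEq.respectTransparency false
set_option backward.defeqAttrib.useBackward true

universe w w' v v' u u'

open CategoryTheory CategoryTheory.Limits CategoryTheory.Abelian

namespace Groth.Agent.EtCmp

variable {A : Type u} [Category.{v} A] [Abelian A] [HasExt.{w} A]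
  {B : Type u'} [Category.{v'} B] [Abelian B] [HasExt.{w'} B] [EnoughInjectives B] [HasInjectiveResolutions B]
  {L : A ⥤ B} {R : B ⥤ A} (adj : L ⊣ R) [L.Additive] [R.Additive]
  [PreservesFiniteLimits L] [PreservesFiniteColimits L] [PreservesFiniteLimits R]

/-- Apply the left adjoint, then the counit. -/
noncomputable def adjExtHom (M : A) (F : B) (n : ℕ) :
    Ext.{w} M (R.obj F) n →+ Ext.{w'} (L.obj M) F n :=
  ((Ext.mk₀ (adj.counit.app F)).postcomp (L.obj M) (add_zero n)).comp (L.mapExtAddHom M (R.obj F) n)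

theorem adjExtHom_apply (M : A) (F : B) (n : ℕ) (x : Ext.{w} M (R.obj F) n) :
    adjExtHom adj M F n x = (x.mapExactFunctor L).comp (Ext.mk₀ (adj.counit.app F)) (add_zero n) := rfl

/-- The adjunction isomorphism on `Ext` in the presence of acyclicity. -/
theorem bijective_adjExtHom (M : A) (n : ℕ) : ∀ F : B,
    (∀ q : ℕ, 0 < q → IsZero ((R.rightDerived q).obj F)) → Function.Bijective (adjExtHom adj M F n) := by
  induction n with
  | zero =>
    intro F _
    have h : ∀ f : M ⟶ R.obj F, adjExtHom adj M F 0 (Ext.mk₀ f) = Ext.mk₀ ((adj.homEquiv M F).symm f) := fun f => by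
      rw [adjExtHom_apply, Ext.mapExactFunctor_mk₀, Ext.mk₀_comp_mk₀, Adjunction.homEquiv_counit]
    refine ⟨fun x y hxy => ?_, fun x => ?_⟩
    · obtain ⟨f, rfl⟩ := (Ext.mk₀_bijective _ _).2 x
      obtain ⟨g, rfl⟩ := (Ext.mk₀_bijective _ _).2 y
      rw [h, h] at hxy
      rw [(adj.homEquiv M F).symm.injective ((Ext.mk₀_bijective _ _).1 hxy)]
    · obtain ⟨f, rfl⟩ := (Ext.mk₀_bijective _ _).2 x
      exact ⟨Ext.mk₀ (adj.homEquiv M F f), by rw [h, Equiv.symm_apply_apply]⟩
  | succ n ih =>
    intro F hF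
    let _ := HasDerivedCategory.standard A
    let _ := HasDerivedCategory.standard B
    let S := SiteCoh.injEmbed F
    have hS : S.ShortExact := SiteCoh.injEmbed_shortExact F
    haveI : Injective S.X₂ := inferInstanceAs (Injective (Injective.under F))
    have hX₂ : ∀ q : ℕ, 0 < q → IsZero ((R.rightDerived q).obj S.X₂) := fun q hq => by
      obtain ⟨k, rfl⟩ : ∃ k, q = k + 1 := ⟨q - 1, by omega⟩
      exact Functor.isZero_rightDerived_obj_injective_succ R k _
    have hX₃ : ∀ q : ℕ, 0 < q → IsZero ((R.rightDerived q).obj S.X₃) :=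
      (SpecSeq.rAcyclic_iff R _).1 (SpecSeq.rAcyclic_X₃ hS ((SpecSeq.rAcyclic_iff R _).2 hF)
        ((SpecSeq.rAcyclic_iff R _).2 hX₂))
    have hRS : (S.map R).ShortExact :=
      { exact := hS.exact.map_of_mono_of_preservesKernel R hS.mono_f inferInstance
        mono_f := by
          haveI := hS.mono_f
          exact inferInstanceAs (Mono (R.map S.f))
        epi_g := SpecSeq.epi_map_of_isZero_rightDerived_one hS (hF 1 Nat.one_pos) }
    have hLRS : ((S.map R).map L).ShortExact := hRS.map_of_exact L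
    let φ : (S.map R).map L ⟶ S :=
      { τ₁ := adj.counit.app _
        τ₂ := adj.counit.app _
        τ₃ := adj.counit.app _
        comm₁₂ := (adj.counit.naturality S.f).symm
        comm₂₃ := (adj.counit.naturality S.g).symm }
    haveI : Injective (R.obj S.X₂) := Injective.injective_of_adjoint adj _
    haveI : Injective (S.map R).X₂ := Injective.injective_of_adjoint adj S.X₂
    have hδ : ∀ y : Ext.{w} M (R.obj S.X₃) n, adjExtHom adj M F (n + 1) (y.comp hRS.extClass rfl) =
        (adjExtHom adj M S.X₃ n y).comp hS.extClass rfl := fun y => by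
      have e1 : (y.comp hRS.extClass rfl).mapExactFunctor L = (y.mapExactFunctor L).comp hLRS.extClass rfl := by
        rw [Ext.mapExactFunctor_comp, Ext.mapExactFunctor_extClass]
      have e2 : (Ext.mk₀ (adj.counit.app S.X₃)).comp hS.extClass (zero_add 1) =
          hLRS.extClass.comp (Ext.mk₀ (adj.counit.app S.X₁)) (add_zero 1) :=
        (ShortComplex.ShortExact.extClass_naturality hLRS hS φ).symm
      rw [adjExtHom_apply, adjExtHom_apply, e1, Ext.comp_assoc_of_second_deg_zero, e2]
      exact Ext.comp_assoc_of_third_deg_zero _ _ _ _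
    have hg : ∀ w' : Ext.{w} M (R.obj S.X₂) n,
        adjExtHom adj M S.X₃ n (w'.comp (Ext.mk₀ (R.map S.g)) (add_zero n)) =
          (adjExtHom adj M S.X₂ n w').comp (Ext.mk₀ S.g) (add_zero n) := fun w' => by
      rw [adjExtHom_apply, adjExtHom_apply, Ext.mapExactFunctor_comp, Ext.mapExactFunctor_mk₀,
        Ext.comp_assoc_of_third_deg_zero, Ext.comp_assoc_of_third_deg_zero, Ext.mk₀_comp_mk₀, Ext.mk₀_comp_mk₀]
      exact congrArg (fun t => (w'.mapExactFunctor L).comp (Ext.mk₀ t) (add_zero n)) (adj.counit.naturality S.g)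
    refine ⟨(injective_iff_map_eq_zero _).2 fun z hz => ?_, fun x => ?_⟩
    · obtain ⟨y, rfl⟩ := Ext.covariant_sequence_exact₁ M hRS z (Ext.eq_zero_of_injective _) rfl
      erw [hδ] at hz
      obtain ⟨w₀, hw⟩ := Ext.covariant_sequence_exact₃ _ hS _ rfl hz
      obtain ⟨w', rfl⟩ := (ih S.X₂ hX₂).2 w₀
      have hy : y = w'.comp (Ext.mk₀ (R.map S.g)) (add_zero n) := (ih S.X₃ hX₃).1 ((hg w').trans hw).symm
      subst hy
      rw [Ext.comp_assoc_of_second_deg_zero]
      erw [hRS.comp_extClass]
      exact Ext.comp_zero w' _ _ _ _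
    · obtain ⟨y, hy⟩ := Ext.covariant_sequence_exact₁ _ hS x (Ext.eq_zero_of_injective _) rfl
      obtain ⟨y', rfl⟩ := (ih S.X₃ hX₃).2 y
      exact ⟨y'.comp hRS.extClass rfl, (hδ y').trans hy⟩

end Groth.Agent.EtCmp
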