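import Groth.Agent.EtCmp.Comparison
import Groth.Agent.EtCmp.RDeg

/-!
# `R^qε_*ε⁻¹F = 0` and the comparison of étale and pro-étale cohomology
-/

set_option autoImplicit false
set_option linter.all false
set_option backward.isDefEq.respectTransparency.types false
set_option backward.isDefEq.respectTransparency false
set_option synthInstance.maxHeartbeats 400000
set_option maxHeartbeats 1000000

universe u

open CategoryTheory Limits CategoryTheory.Abelian AlgebraicGeometry Opposite
open Groth.Agent.SiteCoh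

namespace Groth.Agent.EtCmp

variable {X : Scheme.{u}} [ProEtS.EpsCont X]

instance preservesFiniteLimits_epsPush : PreservesFiniteLimits (ProEtS.epsPush X) := by
  haveI : PreservesLimitsOfSize.{0, 0} (ProEtS.epsPush X) := (ProEtS.epsAdj X).rightAdjoint_preservesLimits
  exact PreservesLimitsOfSize.preservesFiniteLimits (ProEtS.epsPush X)

/-- Good sheaves are `ε_*`-acyclic. -/
theorem isZero_rightDerived_good {K : ProEtS.AbP X} (hK : Good K) (q : ℕ) :
    IsZero (((ProEtS.epsPush X).rightDerived (q + 1)).obj K) := by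
  refine isZero_rightDerived_of_class (ProEtS.epsPush X) Good (fun A hA => ?_) q K hK
  haveI : Injective (injEmbed A).X₂ := inferInstanceAs (Injective (Injective.under A))
  refine ⟨injEmbed A, injEmbed_shortExact A, ⟨Iso.refl _⟩, fun n hn => ?_,
    (shortExact_push (injEmbed_shortExact A) hA.1).epi_g, good_X₃ (injEmbed_shortExact A) hA⟩
  obtain ⟨k, rfl⟩ : ∃ k, n = k + 1 := ⟨n - 1, by omega⟩
  exact Functor.isZero_rightDerived_obj_injective_succ _ k _

/-- The higher direct images of a pullback vanish. -/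
theorem isZero_rightDerived_pull (F : EtCoh.Ab X) (q : ℕ) :
    IsZero (((ProEtS.epsPush X).rightDerived (q + 1)).obj ((ProEtS.epsPull X).obj F)) := by
  refine isZero_rightDerived_of_class (ProEtS.epsPush X)
    (fun A => ∃ G, Nonempty ((ProEtS.epsPull X).obj G ≅ A)) ?_ q _ ⟨F, ⟨Iso.refl _⟩⟩
  rintro A ⟨G, ⟨e⟩⟩
  haveI : Injective (injEmbed G).X₂ := inferInstanceAs (Injective (Injective.under G))
  refine ⟨(injEmbed G).map (ProEtS.epsPull X), (injEmbed_shortExact G).map_of_exact _, ⟨e⟩,
    fun n hn => ?_, ?_, ⟨_, ⟨Iso.refl _⟩⟩⟩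
  · obtain ⟨k, rfl⟩ : ∃ k, n = k + 1 := ⟨n - 1, by omega⟩
    exact isZero_rightDerived_good (good_pull (injEmbed G).X₂) k
  · show Epi ((ProEtS.epsPush X).map ((ProEtS.epsPull X).map (injEmbed G).g))
    haveI := (injEmbed_shortExact G).epi_g
    have h := (ProEtS.epsAdj X).unit.naturality (injEmbed G).g
    haveI : Epi ((injEmbed G).g ≫ (ProEtS.epsAdj X).unit.app _) := epi_comp _ _
    haveI : Epi ((ProEtS.epsAdj X).unit.app _ ≫
        (ProEtS.epsPush X).map ((ProEtS.epsPull X).map (injEmbed G).g)) := by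
      have e : (ProEtS.epsAdj X).unit.app _ ≫ (ProEtS.epsPush X).map ((ProEtS.epsPull X).map (injEmbed G).g) =
          (injEmbed G).g ≫ (ProEtS.epsAdj X).unit.app _ := h.symm
      rw [e]
      infer_instance
    exact epi_of_epi ((ProEtS.epsAdj X).unit.app (injEmbed G).X₂) _

/-- `topE X` is final. -/
noncomputable def isTerminalTopE (X : Scheme.{u}) : IsTerminal (topE X) :=
  IsTerminal.ofUniqueHom
    (fun W => MorphismProperty.Over.homMk W.hom (Category.comp_id W.hom) trivial)
    (fun W m => (Scheme.Etale.forget X ⋙ CategoryTheory.Over.forget X).map_injective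
      ((Category.comp_id _).symm.trans (CategoryTheory.Over.w m.hom)))

/-- Constant sheaves pull back to constant sheaves. -/
noncomputable def pullConstIso (M : AddCommGrpCat.{u + 1}) :
    (ProEtS.epsPull X).obj ((constantSheaf X.smallEtaleTopology AddCommGrpCat.{u + 1}).obj M) ≅
      (constantSheaf (Scheme.ProEt.topology X) AddCommGrpCat.{u + 1}).obj M :=
  ((((constantSheafAdj X.smallEtaleTopology AddCommGrpCat.{u + 1} (isTerminalTopE X)).comp
      (ProEtS.epsAdj X)).ofNatIsoRight
        (show ProEtS.epsPush X ⋙ (sheafSections X.smallEtaleTopology AddCommGrpCat.{u + 1}).obj (op (topE X)) ≅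
            (sheafSections (Scheme.ProEt.topology X) AddCommGrpCat.{u + 1}).obj (op (ProEtS.topP X)) from
          NatIso.ofComponents (fun K => Iso.refl _) (fun f => by
            dsimp
            simp only [Category.comp_id, Category.id_comp]
            rfl))).leftAdjointUniq
    (constantSheafAdj (Scheme.ProEt.topology X) AddCommGrpCat.{u + 1} (isTerminalTopP X))).app M

/-- The étale constant sheaf `ℤ`. -/
noncomputable abbrev zE (X : Scheme.{u}) : EtCoh.Ab X :=
  (constantSheaf X.smallEtaleTopology AddCommGrpCat.{u + 1}).obj (AddCommGrpCat.of (ULift.{u + 1} ℤ))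

/-- `ε⁻¹` is bijective on `Ext(ℤ, -)`. -/
theorem bijective_mapExt (n : ℕ) : ∀ F : EtCoh.Ab X,
    Function.Bijective ((ProEtS.epsPull X).mapExtAddHom (zE X) F n :
      Ext.{u + 1} (zE X) F n → Ext.{u + 1} _ _ n) := by
  induction n with
  | zero =>
    intro F
    refine ⟨fun x y h => ?_, fun x => ?_⟩
    · obtain ⟨f, rfl⟩ := (Ext.mk₀_bijective _ _).2 x
      obtain ⟨g, rfl⟩ := (Ext.mk₀_bijective _ _).2 y
      rw [Functor.mapExtAddHom_apply, Functor.mapExtAddHom_apply, Ext.mapExactFunctor_mk₀,
        Ext.mapExactFunctor_mk₀] at h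
      rw [(fullyFaithful_epsPull X).map_injective ((Ext.mk₀_bijective _ _).1 h)]
    · obtain ⟨f, rfl⟩ := (Ext.mk₀_bijective _ _).2 x
      obtain ⟨g, rfl⟩ := (fullyFaithful_epsPull X).map_surjective f
      exact ⟨Ext.mk₀ g, by rw [Functor.mapExtAddHom_apply, Ext.mapExactFunctor_mk₀]⟩
  | succ n ih =>
    intro F
    let S := injEmbed F
    have hS : S.ShortExact := injEmbed_shortExact F
    have hS' : (S.map (ProEtS.epsPull X)).ShortExact := hS.map_of_exact _
    haveI : Injective S.X₂ := inferInstanceAs (Injective (Injective.under F))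
    have hJ : Subsingleton (Ext.{u + 1} ((ProEtS.epsPull X).obj (zE X))
        ((ProEtS.epsPull X).obj S.X₂) (n + 1)) :=
      subsingleton_ext_good (pullConstIso _) (good_pull S.X₂) n
    have hmap : ∀ y : Ext.{u + 1} (zE X) S.X₃ n,
        (y.comp hS.extClass rfl).mapExactFunctor (ProEtS.epsPull X) =
          (y.mapExactFunctor (ProEtS.epsPull X)).comp hS'.extClass rfl := fun y => by
      rw [Ext.mapExactFunctor_comp, Ext.mapExactFunctor_extClass]
    refine ⟨(injective_iff_map_eq_zero _).2 fun z hz => ?_, fun x => ?_⟩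
    · obtain ⟨y, rfl⟩ := Ext.covariant_sequence_exact₁ (zE X) hS z
        (Ext.eq_zero_of_injective _) rfl
      rw [Functor.mapExtAddHom_apply, hmap] at hz
      obtain ⟨w, hw⟩ := Ext.covariant_sequence_exact₃ _ hS' (y.mapExactFunctor (ProEtS.epsPull X)) rfl hz
      obtain ⟨w', rfl⟩ := (ih S.X₂).2 w
      have hy : y = w'.comp (Ext.mk₀ S.g) (add_zero n) := (ih S.X₃).1 (by
        rw [Functor.mapExtAddHom_apply, Functor.mapExtAddHom_apply, Ext.mapExactFunctor_comp,
          Ext.mapExactFunctor_mk₀]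
        exact hw.symm)
      rw [hy, Ext.comp_assoc_of_second_deg_zero, hS.comp_extClass, Ext.comp_zero]
    · obtain ⟨y, hy⟩ := Ext.covariant_sequence_exact₁ _ hS' x (hJ.elim _ _) rfl
      obtain ⟨y', rfl⟩ := (ih S.X₃).2 y
      exact ⟨y'.comp hS.extClass rfl, by rw [Functor.mapExtAddHom_apply, hmap]; exact hy⟩

/-- Precomposition with an isomorphism. -/
noncomputable def extIsoLeft {A : Type (u + 2)} [Category.{u + 1} A] [Abelian A] [HasExt.{u + 1} A]
    {Y Y' K : A} (e : Y ≅ Y') (n : ℕ) : Ext.{u + 1} Y K n ≃+ Ext.{u + 1} Y' K n where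
  toFun x := (Ext.mk₀ e.inv).comp x (zero_add n)
  invFun x := (Ext.mk₀ e.hom).comp x (zero_add n)
  left_inv x := by
    dsimp only
    rw [Ext.mk₀_comp_mk₀_assoc, Iso.hom_inv_id, Ext.mk₀_id_comp]
  right_inv x := by
    dsimp only
    rw [Ext.mk₀_comp_mk₀_assoc, Iso.inv_hom_id, Ext.mk₀_id_comp]
  map_add' x y := Ext.comp_add _ _ _ _

/-- Étale and pro-étale cohomology of an étale sheaf agree. -/
noncomputable def hEquiv (F : EtCoh.Ab X) (n : ℕ) :
    EtCoh.H X F n ≃+ ProEtS.HP X ((ProEtS.epsPull X).obj F) n :=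
  (AddEquiv.ofBijective ((ProEtS.epsPull X).mapExtAddHom (zE X) F n) (bijective_mapExt n F)).trans
    (extIsoLeft (pullConstIso _) n)

end Groth.Agent.EtCmp
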