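import Groth.Agent.ProEtWC.EpsSections
import Groth.Agent.EtCechLib.Etale

/-!
# Continuity of `ε`
-/

set_option autoImplicit false
set_option linter.all false
set_option backward.isDefEq.respectTransparency.types false
set_option backward.isDefEq.respectTransparency false

universe u

open CategoryTheory Limits AlgebraicGeometry Opposite

namespace Groth.Agent.EtCmp

theorem coverPreserving_eps (X : Scheme.{u}) :
    CoverPreserving X.smallEtaleTopology (Scheme.ProEt.topology X) (ProEtS.eps X) :=
  ⟨fun {U S} hS => ProEtWC.EpsUnit.mem_of_etale_points _ fun y => by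
    obtain ⟨Z, f, hf, hy⟩ := EtCechLib.exists_mem_of_mem hS y
    exact ⟨(ProEtS.eps X).obj Z, (ProEtS.eps X).map f, ProEtWC.EpsUnit.etale_left f,
      Sieve.image_mem_functorPushforward (ProEtS.eps X) S hf, hy⟩⟩

theorem epsCont (X : Scheme.{u}) : ProEtS.EpsCont X :=
  Functor.isContinuous_of_coverPreserving (compatiblePreservingOfFlat (Scheme.ProEt.topology X) (ProEtS.eps X))
    (coverPreserving_eps X)

end Groth.Agent.EtCmp
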