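import Groth.Prelude.Def_ProEtS
import Groth.Agent.ProEtWC.EpsUnit
import Mathlib.Algebra.Category.Grp.AB
import Mathlib.CategoryTheory.Sites.Pullback

/-!
# Exactness of `ε⁻¹`
-/

set_option autoImplicit false
set_option linter.all false
set_option backward.isDefEq.respectTransparency false
set_option backward.defeqAttrib.useBackward true

open CategoryTheory CategoryTheory.Limits AlgebraicGeometry Opposite

namespace Groth.Agent.EtCmp

universe v₁ u₁ v w u

theorem lan_preservesFiniteLimits {C : Type u₁} [Category.{v₁} C] {D : Type u₁} [Category.{v₁} D]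
    (E : Type w) [Category.{v} E] [HasFiniteLimits E] [HasColimitsOfSize.{v₁, max u₁ v₁} E] [AB5OfSize.{v₁, max u₁ v₁} E]
    (F : C ⥤ D) [RepresentablyFlat F] [∀ (G : Cᵒᵖ ⥤ E), F.op.HasPointwiseLeftKanExtension G] :
    PreservesFiniteLimits (F.op.lan : (Cᵒᵖ ⥤ E) ⥤ Dᵒᵖ ⥤ E) := by
  refine ⟨fun J _ _ => preservesLimitsOfShape_of_evaluation _ J fun K => ?_⟩
  have : IsFiltered (CostructuredArrow F.op K) :=
    IsFiltered.of_equivalence (structuredArrowOpEquivalence F (unop K))
  have : HasColimitsOfShape (CostructuredArrow F.op K) E := HasColimitsOfSize.has_colimits_of_shape _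
  let iso : F.op.lan ⋙ (evaluation Dᵒᵖ E).obj K ≅
      (Functor.whiskeringLeft _ _ E).obj (CostructuredArrow.proj F.op K) ⋙ colim :=
    NatIso.ofComponents (fun G => IsColimit.coconePointUniqueUpToIso
      (Functor.isPointwiseLeftKanExtensionLeftKanExtensionUnit F.op G K) (colimit.isColimit _)) (fun {G₁ G₂} φ => by
      apply (Functor.isPointwiseLeftKanExtensionLeftKanExtensionUnit F.op G₁ K).hom_ext
      intro T
      have h₁ := fun (G : Cᵒᵖ ⥤ E) => IsColimit.comp_coconePointUniqueUpToIso_hom
        (Functor.isPointwiseLeftKanExtensionLeftKanExtensionUnit F.op G K) (colimit.isColimit _) T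
      have h₂ := congr_app (F.op.lanUnit.naturality φ) T.left
      dsimp at h₁ h₂ ⊢
      simp only [Category.assoc] at h₁ ⊢
      simp only [Functor.lan, Functor.lanUnit] at h₂ ⊢
      rw [reassoc_of% h₁, NatTrans.naturality_assoc, ← reassoc_of% h₂, h₁, ι_colimMap, Functor.whiskerLeft_app]
      rfl)
  exact preservesLimitsOfShape_of_natIso iso.symm

variable (X : Scheme.{u}) [ProEtS.EpsCont X]

instance preservesFiniteLimits_epsPull : PreservesFiniteLimits (ProEtS.epsPull X) := by
  haveI : AB5OfSize.{u, u + 1} AddCommGrpCat.{u + 1} := AB5OfSize_of_univLE AddCommGrpCat.{u + 1}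
  haveI := lan_preservesFiniteLimits AddCommGrpCat.{u + 1} (ProEtS.eps X)
  exact Functor.sheafPullbackConstruction.preservesFiniteLimits (ProEtS.eps X) AddCommGrpCat.{u + 1}
    X.smallEtaleTopology (Scheme.ProEt.topology X)

instance preservesFiniteColimits_epsPull : PreservesFiniteColimits (ProEtS.epsPull X) := by
  haveI := (ProEtS.epsAdj X).leftAdjoint_preservesColimits
  infer_instance

instance additive_epsPull : (ProEtS.epsPull X).Additive := by
  haveI : PreservesBinaryBiproducts (ProEtS.epsPull X) :=
    preservesBinaryBiproducts_of_preservesBinaryCoproducts _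
  exact Functor.additive_of_preservesBinaryBiproducts _

instance preservesMonomorphisms_epsPull : (ProEtS.epsPull X).PreservesMonomorphisms := inferInstance

instance isIso_unit_eps : IsIso (ProEtS.epsAdj X).unit :=
  haveI := fun F => ProEtWC.EpsUnit.isIso_unit (X := X) F
  NatIso.isIso_of_isIso_app _

/-- `ε⁻¹` is fully faithful. -/
noncomputable def fullyFaithful_epsPull : (ProEtS.epsPull X).FullyFaithful :=
  (ProEtS.epsAdj X).fullyFaithfulLOfIsIsoUnit

/-- `ε⁻¹` is the sheafified left Kan extension. -/
noncomputable def pullIso (F : EtCoh.Ab X) : (ProEtS.epsPull X).obj F ≅ ProEtWC.EpsUnit.G F :=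
  (Functor.sheafAdjunctionContinuous (ProEtS.eps X) AddCommGrpCat.{u + 1} X.smallEtaleTopology
      (Scheme.ProEt.topology X)).leftAdjointUniq
    (Functor.sheafPullbackConstruction.sheafAdjunctionContinuous (ProEtS.eps X) AddCommGrpCat.{u + 1}
      X.smallEtaleTopology (Scheme.ProEt.topology X)) |>.app F

end Groth.Agent.EtCmp
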