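import Groth.Agent.EtCmp.Flasque
import Groth.Agent.EtCmp.Derived
import Groth.Agent.EtStalkLib.AcyclicComp
import Groth.Agent.SiteCoh.Derived

/-!
# Higher direct images commute with `ε⁻¹`
-/

set_option autoImplicit false
set_option linter.all false
set_option backward.isDefEq.respectTransparency.types false
set_option backward.isDefEq.respectTransparency false
set_option synthInstance.maxHeartbeats 400000
set_option maxHeartbeats 1000000

universe u

open CategoryTheory Limits AlgebraicGeometry Opposite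
open Groth.Agent.SiteCoh Groth.Agent.ProEtWC.EpsUnit

namespace Groth.Agent.EtCmp

variable {X Y : Scheme.{u}} (f : X ⟶ Y)

theorem isPullback_bcP_map {W W' : Y.ProEt} (g : W ⟶ W') :
    IsPullback ((ProEtS.bcP f).map g).left (pullback.fst W.hom f) (pullback.fst W'.hom f) g.left := by
  have h1 : ((ProEtS.bcP f).map g).left ≫ pullback.snd W'.hom f = pullback.snd W.hom f := pullback.lift_snd _ _ _
  have h2 : ((ProEtS.bcP f).map g).left ≫ pullback.fst W'.hom f = pullback.fst W.hom f ≫ g.left :=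
    pullback.lift_fst _ _ _
  have hs : IsPullback (((ProEtS.bcP f).map g).left ≫ pullback.snd W'.hom f) (pullback.fst W.hom f) f
      (g.left ≫ W'.hom) := by
    convert! (IsPullback.of_hasPullback W.hom f).flip using 1
    exact CategoryTheory.Over.w g.hom
  exact IsPullback.of_right hs h2 (IsPullback.of_hasPullback W'.hom f).flip

theorem quasiSeparatedSpace_bcP [QuasiSeparated f] (W : Y.ProEt) [hq : QuasiSeparatedSpace W.left] :
    QuasiSeparatedSpace ((ProEtS.bcP f).obj W).left :=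
  haveI : QuasiSeparatedSpace ↥((𝟭 Scheme.{u}).obj W.left) := hq
  haveI : QuasiSeparated (pullback.fst W.hom f) := MorphismProperty.pullback_fst _ _ inferInstance
  AlgebraicGeometry.quasiSeparatedSpace_of_quasiSeparated (pullback.fst W.hom f)

theorem compactSpace_bcP [QuasiCompact f] (W : Y.ProEt) [hq : CompactSpace W.left] :
    CompactSpace ((ProEtS.bcP f).obj W).left :=
  haveI : CompactSpace ↥((𝟭 Scheme.{u}).obj W.left) := hq
  haveI : QuasiCompact (pullback.fst W.hom f) := MorphismProperty.pullback_fst _ _ inferInstance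
  QuasiCompact.compactSpace_of_compactSpace (pullback.fst W.hom f)

/-- The base change of an affine ind-étale object has a finite cover by affine ind-étale opens. -/
theorem exists_inB_opens [QuasiCompact f] {W : Y.ProEt} (hW : InB W) :
    ∃ (n : ℕ) (O : Fin n → ((ProEtS.bcP f).obj W).left.Opens),
      (∀ k, InB (openP ((ProEtS.bcP f).obj W) (O k))) ∧ ⨆ k, O k = ⊤ := by
  obtain ⟨hWa, U, g, hU, hg⟩ := hW
  haveI := hWa
  haveI : IsAffine ((ProEtS.eps Y).obj U).left := hU
  haveI : CompactSpace ((ProEtS.bcP f).obj ((ProEtS.eps Y).obj U)).left :=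
    compactSpace_bcP f ((ProEtS.eps Y).obj U)
  let P' := (ProEtS.bcP f).obj ((ProEtS.eps Y).obj U)
  let P := (ProEtS.bcP f).obj W
  let m : P.left ⟶ P'.left := ((ProEtS.bcP f).map g).left
  have sq := isPullback_bcP_map f g
  haveI : IsAffineHom g.left := inferInstance
  haveI hm : IsAffineHom m := MorphismProperty.of_isPullback (P := @IsAffineHom) sq.flip inferInstance
  obtain ⟨s, hs, hsf, hsU⟩ := (Scheme.isBasis_affineOpens P'.left).exists_finite_of_isCompact
    (U := ⊤) (by simpa using isCompact_univ)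
  haveI : Finite s := hsf
  let O₀ : Fin (Nat.card s) → P'.left.Opens := fun k => ((Finite.equivFin s).symm k).1
  refine ⟨Nat.card s, fun k => m ⁻¹ᵁ O₀ k, fun k => ?_, ?_⟩
  · have hO₀ : IsAffineOpen (O₀ k) := hs ((Finite.equivFin s).symm k).2
    haveI : IsAffine (O₀ k).toScheme := hO₀
    haveI : IsAffine (m ⁻¹ᵁ O₀ k).toScheme := hO₀.preimage m
    haveI : Etale ((ProEtS.eps Y).obj U).hom := U.prop
    haveI : Etale P'.hom :=
      inferInstanceAs (Etale (pullback.snd ((ProEtS.eps Y).obj U).hom f))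
    let U' : X.Etale := Scheme.Etale.mk ((O₀ k).ι ≫ P'.hom)
    let r : (m ⁻¹ᵁ O₀ k).toScheme ⟶ (O₀ k).toScheme := m.resLE (O₀ k) (m ⁻¹ᵁ O₀ k) le_rfl
    have hr : (m ⁻¹ᵁ O₀ k).ι ≫ m = r ≫ (O₀ k).ι := (m.resLE_comp_ι le_rfl).symm
    let g' : openP P (m ⁻¹ᵁ O₀ k) ⟶ (ProEtS.eps X).obj U' := MorphismProperty.Over.homMk r (by
      show r ≫ (O₀ k).ι ≫ P'.hom = (m ⁻¹ᵁ O₀ k).ι ≫ P.hom
      rw [← Category.assoc, ← hr, Category.assoc]
      exact congrArg (fun t => (m ⁻¹ᵁ O₀ k).ι ≫ t) (CategoryTheory.Over.w ((ProEtS.bcP f).map g).hom)) trivial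
    refine ⟨inferInstanceAs (IsAffine (m ⁻¹ᵁ O₀ k).toScheme), U', g', hO₀, ?_⟩
    have sqO : IsPullback r (m ⁻¹ᵁ O₀ k).ι (O₀ k).ι m :=
      IsOpenImmersion.isPullback _ _ _ _ hr (by rw [Scheme.Opens.opensRange_ι, Scheme.Opens.opensRange_ι])
    exact @IndEt.of_isPullback _ _ _ _ _ _ _ _ hO₀ hWa hU (sqO.paste_vert sq) hg
  · have h : ⨆ k, O₀ k = ⊤ := by
      rw [hsU, sSup_eq_iSup']
      exact (Finite.equivFin s).symm.surjective.iSup_comp fun i : s => i.1
    rw [← Scheme.Hom.preimage_iSup, h, Scheme.Hom.preimage_top]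

variable [ProEtS.PCont f]

theorem epi_pushP [QuasiCompact f] [QuasiSeparated f] {S : ShortComplex (ProEtS.AbP X)} (hS : S.ShortExact)
    (h₁ : GoodP S.X₁) : Epi ((ProEtS.pushP f).map S.g) := by
  refine epi_of_inB _ fun W hW => ?_
  haveI := hW.isAffine
  haveI : QuasiSeparatedSpace ((ProEtS.bcP f).obj W).left := quasiSeparatedSpace_bcP f W
  obtain ⟨n, O, hO, hcov⟩ := exists_inB_opens f hW
  exact surjective_sections_of_cover hS h₁ _ O hO hcov

instance preservesFiniteLimits_pushP : PreservesFiniteLimits (ProEtS.pushP f) := by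
  haveI : PreservesLimitsOfSize.{0, 0} (ProEtS.pushP f) := (ProEtS.pullPushAdjP f).rightAdjoint_preservesLimits
  exact PreservesLimitsOfSize.preservesFiniteLimits (ProEtS.pushP f)

theorem isZero_rightDerived_pushP [QuasiCompact f] [QuasiSeparated f] [ProEtS.EpsCont X] {K : ProEtS.AbP X}
    (hK : GoodP K) (q : ℕ) : IsZero (((ProEtS.pushP f).rightDerived (q + 1)).obj K) := by
  refine isZero_rightDerived_of_class (ProEtS.pushP f) GoodP (fun A hA => ?_) q K hK
  haveI : Injective (injEmbed A).X₂ := inferInstanceAs (Injective (Injective.under A))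
  refine ⟨injEmbed A, injEmbed_shortExact A, ⟨Iso.refl _⟩, fun n hn => ?_,
    epi_pushP f (injEmbed_shortExact A) hA, goodP_X₃ (injEmbed_shortExact A) hA⟩
  obtain ⟨k, rfl⟩ : ∃ k, n = k + 1 := ⟨n - 1, by omega⟩
  exact Functor.isZero_rightDerived_obj_injective_succ _ k _

variable [ProEtS.EpsCont X] [ProEtS.EpsCont Y]

/-- The adjoint of the comparison map. -/
noncomputable def psi (F : EtCoh.Ab X) :
    (EtCoh.push f).obj F ⟶ (ProEtS.epsPush Y).obj ((ProEtS.pushP f).obj ((ProEtS.epsPull X).obj F)) :=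
  (EtCoh.push f).map ((ProEtS.epsAdj X).unit.app F)

/-- The comparison map `ε⁻¹ f_* ⟶ f_* ε⁻¹`. -/
noncomputable def phi : EtCoh.push f ⋙ ProEtS.epsPull Y ⟶ ProEtS.epsPull X ⋙ ProEtS.pushP f where
  app F := ((ProEtS.epsAdj Y).homEquiv _ _).symm (psi f F)
  naturality {F F'} g := by
    show (ProEtS.epsPull Y).map ((EtCoh.push f).map g) ≫ _ = _ ≫ (ProEtS.pushP f).map ((ProEtS.epsPull X).map g)
    refine ((Adjunction.homEquiv_naturality_left_symm (ProEtS.epsAdj Y) _ _).symm.trans ?_).trans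
      (Adjunction.homEquiv_naturality_right_symm (ProEtS.epsAdj Y) _ _)
    congr 1
    show (EtCoh.push f).map g ≫ (EtCoh.push f).map _ = (EtCoh.push f).map _ ≫
      (EtCoh.push f).map ((ProEtS.epsPush X).map ((ProEtS.epsPull X).map g))
    rw [← Functor.map_comp, ← Functor.map_comp]
    exact congrArg (EtCoh.push f).map ((ProEtS.epsAdj X).unit.naturality g)

theorem isIso_push_phi (F : EtCoh.Ab X) : IsIso ((ProEtS.epsPush Y).map ((phi f).app F)) := by
  have h : (ProEtS.epsAdj Y).unit.app _ ≫ (ProEtS.epsPush Y).map ((phi f).app F) = psi f F :=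
    ((ProEtS.epsAdj Y).homEquiv_unit _ _ _).symm.trans (Equiv.apply_symm_apply _ _)
  haveI : IsIso (psi f F) := inferInstanceAs (IsIso ((EtCoh.push f).map ((ProEtS.epsAdj X).unit.app F)))
  haveI : IsIso ((ProEtS.epsAdj Y).unit.app ((EtCoh.push f).obj F) ≫
      (ProEtS.epsPush Y).map ((phi f).app F)) := by rw [h]; infer_instance
  exact IsIso.of_isIso_comp_left ((ProEtS.epsAdj Y).unit.app ((EtCoh.push f).obj F)) _

variable {I : Type u} [SmallCategory I] [IsCofiltered I] (D : I ⥤ X.ProEt)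
  [∀ (i j : I) (a : i ⟶ j), IsAffineHom (D.map a).left]
  [∀ i, CompactSpace ↥(D.obj i).left] [∀ i, QuasiSeparatedSpace ↥(D.obj i).left]
  (c : Cone D) (hc : IsLimit ((Scheme.ProEt.forget X ⋙ CategoryTheory.Over.forget X).mapCone c))

omit [ProEtS.EpsCont Y] [ProEtS.PCont f] in
include hc in
theorem exists_stage (F : EtCoh.Ab X) (s : ((ProEtS.epsPull X).obj F).obj.obj (op c.pt)) :
    ∃ (i : I) (t : ((ProEtS.epsPull X).obj F).obj.obj (op (D.obj i))),
      ((ProEtS.epsPull X).obj F).obj.map (c.π.app i).op t = s := by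
  obtain ⟨h⟩ := ProEtWC.EpsUnit.isColimit_sections F c hc
  obtain ⟨i, t, ht⟩ := Concrete.isColimit_exists_rep _ h s
  exact ⟨i.unop, t, ht⟩

omit [ProEtS.EpsCont Y] [ProEtS.PCont f] in
include hc in
theorem exists_stage_zero (F : EtCoh.Ab X) {i : I} (t : ((ProEtS.epsPull X).obj F).obj.obj (op (D.obj i)))
    (ht : ((ProEtS.epsPull X).obj F).obj.map (c.π.app i).op t = 0) :
    ∃ (k : I) (φ : k ⟶ i), ((ProEtS.epsPull X).obj F).obj.map (D.map φ).op t = 0 := by
  obtain ⟨h⟩ := ProEtWC.EpsUnit.isColimit_sections F c hc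
  obtain ⟨k, a, b, hab⟩ := Concrete.isColimit_exists_of_rep_eq _ h (i := op i) (j := op i) t 0
    (ht.trans (map_zero _).symm)
  exact ⟨k.unop, a.unop, hab.trans (map_zero _)⟩

variable [QuasiCompact f] [QuasiSeparated f]

theorem isIso_phi (F : EtCoh.Ab X) : IsIso ((phi f).app F) := by
  refine isIso_of_inB _ fun W hW => ?_
  obtain ⟨hWa, U, g, hU, hg⟩ := hW
  haveI := hWa
  haveI : IsAffine ((ProEtS.eps Y).obj U).left := hU
  obtain ⟨P⟩ := nonempty_pres g hg
  haveI : Etale ((ProEtS.eps Y).obj U).hom := U.prop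
  let Φ := Scheme.ProEt.forget Y ⋙ CategoryTheory.Over.forget Y
  let Ψ := Scheme.ProEt.forget X ⋙ CategoryTheory.Over.forget X
  have hPY : ∀ i, Etale (P.D.obj i).hom := fun i => by
    haveI := P.etale i
    have e : (P.q.app i).left ≫ ((ProEtS.eps Y).obj U).hom = (P.D.obj i).hom :=
      CategoryTheory.Over.w (P.q.app i).hom
    rw [← e]
    infer_instance
  haveI := isIso_push_phi f F
  have hbij : ∀ i, Function.Bijective (((phi f).app F).hom.app (op (P.D.obj i))) := fun i =>
    haveI := hPY i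
    haveI : IsIso (((ProEtS.epsPush Y).map ((phi f).app F)).hom.app (op (Scheme.Etale.mk (P.D.obj i).hom))) :=
      inferInstanceAs (IsIso (((sheafToPresheaf _ _).map ((ProEtS.epsPush Y).map ((phi f).app F))).app _))
    ConcreteCategory.bijective_of_isIso
      (((ProEtS.epsPush Y).map ((phi f).app F)).hom.app (op (Scheme.Etale.mk (P.D.obj i).hom)))
  haveI : ∀ i, IsAffine (P.D.obj i).left := P.affine
  haveI : ∀ i, CompactSpace ↥(P.D.obj i).left := fun i => inferInstance
  haveI : ∀ i, QuasiSeparatedSpace ↥(P.D.obj i).left := fun i => inferInstance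
  haveI : ∀ (i j : P.I) (a : i ⟶ j), IsAffineHom (P.D.map a).left := fun i j a => inferInstance
  let DX := P.D ⋙ ProEtS.bcP f
  haveI : ∀ i, CompactSpace ↥(DX.obj i).left := fun i => compactSpace_bcP f (P.D.obj i)
  haveI : ∀ i, QuasiSeparatedSpace ↥(DX.obj i).left := fun i => quasiSeparatedSpace_bcP f (P.D.obj i)
  haveI : ∀ (i j : P.I) (a : i ⟶ j), IsAffineHom (DX.map a).left := fun i j a =>
    MorphismProperty.of_isPullback (P := @IsAffineHom) (isPullback_bcP_map f (P.D.map a)).flip inferInstance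
  let cY : Cone P.D := Cone.mk W P.π
  let cX : Cone DX := (ProEtS.bcP f).mapCone cY
  haveI : IsConnected P.I := IsCofiltered.isConnected _
  let π : DX ⋙ Ψ ⟶ P.D ⋙ Φ :=
    { app := fun i => pullback.fst (P.D.obj i).hom f
      naturality := fun i j a => (isPullback_bcP_map f (P.D.map a)).w }
  have hcX : IsLimit (Ψ.mapCone cX) :=
    isLimitOfIsPullbackOfIsConnected π (Ψ.mapCone cX) (Φ.mapCone cY)
      { hom := pullback.fst W.hom f
        w := fun i => (isPullback_bcP_map f (P.π.app i)).w.symm }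
      (fun i => isPullback_bcP_map f (P.π.app i)) P.isLimit
  let α := ((phi f).app F).hom
  have nat : ∀ {W W' : Y.ProEt} (r : W' ⟶ W) (y : ((ProEtS.epsPull Y).obj ((EtCoh.push f).obj F)).obj.obj (op W)),
      α.app (op W') (((ProEtS.epsPull Y).obj ((EtCoh.push f).obj F)).obj.map r.op y) =
        ((ProEtS.epsPull X).obj F).obj.map ((ProEtS.bcP f).map r).op (α.app (op W) y) :=
    fun r y => NatTrans.naturality_apply α r.op y
  refine ⟨(injective_iff_map_eq_zero _).2 fun x hx => ?_, fun s => ?_⟩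
  · obtain ⟨i, x', rfl⟩ := exists_stage P.D cY P.isLimit _ x
    obtain ⟨k, a, hk⟩ := exists_stage_zero DX cX hcX F (α.app (op (P.D.obj i)) x') ((nat _ _).symm.trans hx)
    have h0 : ((ProEtS.epsPull Y).obj ((EtCoh.push f).obj F)).obj.map (P.D.map a).op x' = 0 :=
      (hbij k).1 (((nat _ _).trans hk).trans (map_zero _).symm)
    have e : P.π.app k ≫ P.D.map a = P.π.app i := cY.w a
    show ((ProEtS.epsPull Y).obj ((EtCoh.push f).obj F)).obj.map (P.π.app i).op x' = 0
    rw [← e, op_comp, Functor.map_comp_apply, h0, map_zero]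
  · obtain ⟨i, t, rfl⟩ := exists_stage DX cX hcX F s
    obtain ⟨t', ht'⟩ := (hbij i).2 t
    exact ⟨((ProEtS.epsPull Y).obj ((EtCoh.push f).obj F)).obj.map (P.π.app i).op t',
      (nat (P.π.app i) t').trans (congrArg _ ht')⟩

/-- Higher direct images commute with `ε⁻¹`. -/
theorem nonempty_RpushP_epsPull_iso (F : EtCoh.Ab X) (q : ℕ) :
    Nonempty ((ProEtS.RpushP f q).obj ((ProEtS.epsPull X).obj F) ≅
      (ProEtS.epsPull Y).obj ((EtCoh.Rpush f q).obj F)) := by
  obtain ⟨e₁⟩ := EtStalkLib.nonempty_rightDerived_exactAcyclicComp_iso (ProEtS.epsPull X) (ProEtS.pushP f)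
    (fun I hI k => isZero_rightDerived_pushP f (goodP_pull I) k) q
  haveI : ∀ F, IsIso ((phi f).app F) := isIso_phi f
  haveI : IsIso (phi f) := NatIso.isIso_of_isIso_app _
  let e₂ := SiteCoh.rightDerivedCongr (asIso (phi f)) q
  let e₃ := SiteCoh.rightDerivedCompExactIso (EtCoh.push f) (ProEtS.epsPull Y) q
  exact ⟨e₁.symm.app F ≪≫ e₂.symm.app F ≪≫ e₃.app F⟩

end Groth.Agent.EtCmp
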