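import Groth.Agent.EtCmp.CechStages
import Groth.Agent.SiteCoh.ExtAcyclic
import Groth.Agent.HenselLib.WContrCover

/-!
# The class of pro-étale sheaves acyclic for ind-étale coverings
-/

set_option autoImplicit false
set_option linter.all false
set_option backward.isDefEq.respectTransparency.types false
set_option backward.isDefEq.respectTransparency false
set_option synthInstance.maxHeartbeats 400000
set_option maxHeartbeats 1000000

universe u

open CategoryTheory Limits AlgebraicGeometry Opposite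
open Groth.Agent.SiteCoh Groth.Agent.ProEtWC.EpsUnit

namespace Groth.Agent.EtCmp

variable {X : Scheme.{u}}

/-- Čech acyclicity for ind-étale coverings of objects of `InB`. -/
def CechAcyclic (K : ProEtS.AbP X) : Prop :=
  ∀ ⦃W V : X.ProEt⦄ (a : V ⟶ W), InB W → IsAffine V.left → Function.Surjective a.left → IndEt a.left →
    ∀ p : ℕ, IsZero ((Cech.cx ((Over.forget W).op ⋙ K.obj) (fun _ : PUnit.{u + 2} => Over.mk a)).homology (p + 1))

theorem cechAcyclic_G (I : EtCoh.Ab X) [Injective I] [ProEtS.EpsCont X] : CechAcyclic (G I) := by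
  intro W V a hW hV hs ha p
  haveI := hW.isAffine
  haveI := hV
  obtain ⟨P⟩ := nonempty_pres a ha
  haveI : IsConnected P.I := IsCofiltered.isConnected _
  let Φ := Scheme.ProEt.forget X ⋙ CategoryTheory.Over.forget X
  let j₀ : P.I := Classical.arbitrary _
  let c : Cone ((Functor.const P.I).obj W) := Cone.mk W (𝟙 _)
  have hc : IsLimit (Φ.mapCone c) :=
    { lift := fun s => s.π.app j₀
      fac := fun s j => by
        let f : P.I → (s.pt ⟶ Φ.obj W) := fun i => s.π.app i
        have hconst : f j₀ = f j :=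
          constant_of_preserves_morphisms f (fun i k φ => by
            have := s.w φ
            simpa [f] using this) j₀ j
        show s.π.app j₀ ≫ Φ.map (𝟙 W) = s.π.app j
        exact (congrArg (fun m => s.π.app j₀ ≫ m) (Φ.map_id W)).trans ((Category.comp_id _).trans hconst)
      uniq := fun s m hm => by
        have := hm j₀
        simpa [c] using this }
  refine isZero_cech_limit P.q I (fun _ => hW.isAffine) P.affine c hc (Cone.mk V P.π) P.isLimit a
    (fun i => (P.fac i).trans (Category.comp_id _).symm) p fun i => ?_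
  refine @isZero_cech_etaleCover _ I _ _ W (P.D.obj i) hW (P.affine i) (P.q.app i) (P.etale i) ?_ p
  intro x
  obtain ⟨v, hv⟩ := hs x
  refine ⟨(P.π.app i).left v, ?_⟩
  rw [← hv]
  exact congrArg (fun m => m.left v) (P.fac i)

theorem cechAcyclic_of_injective (J : ProEtS.AbP X) [Injective J] : CechAcyclic J := by
  intro W V a _ _ _ _ p
  haveI := EtCechLib.injective_obj J
  exact EtCechLib.isZero_homology_of_injective (fun _ : PUnit.{u + 2} => Over.mk a) J.obj p

theorem inB_inter {W V : X.ProEt} (hW : InB W) (hV : IsAffine V.left) (a : V ⟶ W) (ha : IndEt a.left) :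
    ∀ {n : ℕ} {c : Fan (fun _ : Fin n => Over.mk a)}, IsLimit c → InB c.pt.left ∧ IndEt c.pt.hom.left := by
  intro n
  induction n with
  | zero =>
    intro c hc
    haveI := hW.isAffine
    haveI hA : IsAffine c.pt.left.left :=
      isAffine_fan (U := W) hW.isAffine (fun _ : Fin 0 => Over.mk a) (fun k => Fin.elim0 k) hc
    have hT : IsTerminal c.pt := IsTerminal.ofUniqueHom
      (fun Z => hc.lift (Fan.mk Z (fun k => Fin.elim0 k)))
      (fun Z m => hc.hom_ext fun ⟨k⟩ => Fin.elim0 k)
    let e := (Over.forget W).mapIso (Over.mkIdTerminal.uniqueUpToIso hT)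
    haveI : IsIso ((Over.forget W).map (hT.from (Over.mk (𝟙 W)))) := e.isIso_hom
    haveI : IsIso c.pt.hom := by
      have h1 : e.inv ≫ 𝟙 W = c.pt.hom := Over.w (Over.mkIdTerminal.uniqueUpToIso hT).inv
      rw [← h1]
      exact IsIso.comp_isIso' e.isIso_inv (IsIso.id W)
    haveI : IsIso c.pt.hom.left :=
      inferInstanceAs (IsIso ((Scheme.ProEt.forget X ⋙ CategoryTheory.Over.forget X).map c.pt.hom))
    exact ⟨hW.of_indEt c.pt.hom (indEt_of_etale _), indEt_of_etale _⟩
  | succ n ih =>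
    intro c hc
    haveI := hW.isAffine
    haveI := hV
    let c₁ : Fan fun _ : Fin n => Over.mk a := Fan.mk _ (Pi.π fun _ : Fin n => Over.mk a)
    let t₁ : IsLimit c₁ := productIsProduct _
    obtain ⟨h₁, h₁'⟩ := ih t₁
    haveI := h₁.isAffine
    let t₂ := prodIsProd (Over.mk a) c₁.pt
    have h := (Over.isPullback_of_binaryFan_isLimit _ t₂).map
      (Scheme.ProEt.forget X ⋙ CategoryTheory.Over.forget X)
    have hA : IsAffine c.pt.left.left :=
      isAffine_fan (U := W) hW.isAffine (fun _ : Fin (n + 1) => Over.mk a) (fun k => hV) hc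
    let e₀ : (Over.mk a ⨯ c₁.pt) ≅ c.pt := (extendFanIsLimit (fun _ : Fin (n + 1) => Over.mk a) t₁ t₂).conePointUniqueUpToIso hc
    let e := (Over.forget W).mapIso e₀
    haveI : IsIso e.inv.left :=
      inferInstanceAs (IsIso ((Scheme.ProEt.forget X ⋙ CategoryTheory.Over.forget X).map e.inv))
    haveI := hA
    haveI hA2 : IsAffine (Over.mk a ⨯ c₁.pt).left.left := @IsAffine.of_isIso _ _
      ((Scheme.ProEt.forget X ⋙ CategoryTheory.Over.forget X).map e.hom) inferInstance hA
    haveI hA3 : IsAffine ((Over.forget W).obj c.pt).left := hA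
    haveI hA4 : IsAffine (Over.mk a).left.left := hV
    haveI hA5 : IsAffine ((Over.forget W).obj (Over.mk a ⨯ c₁.pt)).left := hA2
    have hfst : IndEt (Limits.prod.fst : Over.mk a ⨯ c₁.pt ⟶ Over.mk a).left.left :=
      @IndEt.of_isPullback _ _ _ _ _ _ _ _ hV h₁.isAffine hW.isAffine h h₁'
    have hcomp : IndEt c.pt.hom.left := by
      have h1 : e.inv ≫ ((Limits.prod.fst : Over.mk a ⨯ c₁.pt ⟶ Over.mk a).left ≫ a) = c.pt.hom :=
        (congrArg (fun m => e.inv ≫ m) (Over.w (Limits.prod.fst : Over.mk a ⨯ c₁.pt ⟶ Over.mk a))).trans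
          (Over.w e₀.inv)
      rw [← h1]
      exact (indEt_of_etale e.inv.left).comp (hfst.comp ha)
    exact ⟨hW.of_indEt c.pt.hom hcomp, hcomp⟩

theorem exists_wc_cover {W : X.ProEt} (hW : InB W) :
    ∃ (V : X.ProEt) (a : V ⟶ W), IsAffine V.left ∧ Function.Surjective a.left ∧ IndEt a.left ∧ ProEtS.IsWC V := by
  haveI := hW.isAffine
  obtain ⟨B, _, _, hff, hind, hwc⟩ := HenselLib.WCtr.exists_indEtale_wContractible Γ(W.left, ⊤)
  let r : Γ(W.left, ⊤) ⟶ CommRingCat.of B := CommRingCat.ofHom (algebraMap Γ(W.left, ⊤) B)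
  haveI : WeaklyEtale (Spec.map r) :=
    (SchMor12.weaklyEtale_SpecMap_iff Γ(W.left, ⊤) B).2 (HenselLib.IndEt.weaklyEtale _ _ hind)
  let p : Spec (CommRingCat.of B) ⟶ W.left := Spec.map r ≫ W.left.isoSpec.inv
  haveI : WeaklyEtale W.hom := W.prop
  haveI : WeaklyEtale p := inferInstanceAs (WeaklyEtale (Spec.map r ≫ _))
  let V : X.ProEt := Scheme.ProEt.mk (p ≫ W.hom)
  let a : V ⟶ W := MorphismProperty.Over.homMk p rfl trivial
  haveI : IsAffine V.left := inferInstanceAs (IsAffine (Spec (CommRingCat.of B)))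
  refine ⟨V, a, inferInstance, fun x => ?_, ?_, (ProEtWC.wContractible_iff_isWC V).1
    (ProEtWC.wContractible_of_ringEquiv
      (Scheme.ΓSpecIso (CommRingCat.of B)).symm.commRingCatIsoToRingEquiv hwc)⟩
  · obtain ⟨z, hz⟩ := PrimeSpectrum.comap_surjective_of_faithfullyFlat (A := Γ(W.left, ⊤)) (B := B)
      (W.left.isoSpec.hom x)
    refine ⟨z, ?_⟩
    show W.left.isoSpec.inv (Spec.map r z) = x
    have h1 : Spec.map r z = W.left.isoSpec.hom x := hz
    rw [h1, ← Scheme.Hom.comp_apply, Iso.hom_inv_id]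
    rfl
  · show MorphismProperty.ind.{u} HenselLib.IndEt.etaleMP p.appTop
    have h1 : MorphismProperty.ind.{u} HenselLib.IndEt.etaleMP r := (HenselLib.IndEt.isIndEtale_iff_ind _ _).1 hind
    haveI : IsAffine W.left := hW.isAffine
    refine ((MorphismProperty.ind.{u} HenselLib.IndEt.etaleMP).arrow_mk_iso_iff ?_).1 h1
    refine Arrow.isoMk (Iso.refl _) (Scheme.ΓSpecIso (CommRingCat.of B)).symm ?_
    show 𝟙 _ ≫ p.appTop = r ≫ (Scheme.ΓSpecIso (CommRingCat.of B)).inv
    rw [Category.id_comp, Scheme.Hom.comp_appTop, Scheme.ΓSpecIso_inv_naturality]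
    show _ = (Scheme.ΓSpecIso Γ(W.left, ⊤)).inv ≫ _
    congr 1
    show W.left.isoSpec.inv.appTop = _
    rw [← cancel_mono (Scheme.ΓSpecIso Γ(W.left, ⊤)).hom, Iso.inv_hom_id, ← Scheme.toSpecΓ_appTop,
      ← Scheme.Hom.comp_appTop]
    show (W.left.isoSpec.hom ≫ W.left.isoSpec.inv).appTop = _
    rw [Iso.hom_inv_id, Scheme.Hom.id_appTop]

/-- Sections over `InB` lift along epimorphisms with acyclic kernel. -/
theorem surjective_sections {S : ShortComplex (ProEtS.AbP X)} (hS : S.ShortExact) (h₁ : CechAcyclic S.X₁)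
    {W : X.ProEt} (hW : InB W) : Function.Surjective (S.g.hom.app (op W)) := by
  intro x
  obtain ⟨V, a, hV, hs, ha, hwc⟩ := exists_wc_cover hW
  haveI := hS.epi_g
  haveI := hV
  let φ := (sheafCompose (Scheme.ProEt.topology X) (CategoryTheory.forget AddCommGrpCat.{u + 1})).map S.g
  haveI : Sheaf.IsLocallySurjective S.g :=
    (Sheaf.isLocallySurjective_iff_epi' (A := AddCommGrpCat.{u + 1}) S.g).2 inferInstance
  haveI : Sheaf.IsLocallySurjective φ := inferInstance
  have hlift : Function.Surjective (S.g.hom.app (op V)) := hwc _ _ φ inferInstance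
  have hcov : Sieve.ofArrows (fun _ : PUnit.{u + 2} => V) (fun _ => a) ∈ Scheme.ProEt.topology X W := by
    haveI := hW.isAffine
    refine (Scheme.ProEt.topology X).superset_covering ?_
      (Et18.mem_topology_of_finite (fun _ : PUnit.{1} => V) (fun _ => a) fun x => ⟨⟨⟩, hs x⟩)
    rintro T f ⟨_, d, _, ⟨⟩, rfl⟩
    exact ⟨_, d, _, ⟨PUnit.unit⟩, rfl⟩
  exact EtCechLib.exists_lift_of_cech (Over.forget W) hS (fun _ : PUnit.{u + 2} => Over.mk a) (fun _ => a) hcov
    (fun Z i j f g => (Over.w f).trans (Over.w g).symm)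
    (fun Z i j f g h => ⟨Over.mk (f ≫ a), 𝟙 Z, Over.homMk f rfl, Over.homMk g h.symm,
      Category.id_comp _, Category.id_comp _⟩)
    (h₁ a hW hV hs ha 0) x fun i => hlift _

theorem cechAcyclic_X₃ {S : ShortComplex (ProEtS.AbP X)} (hS : S.ShortExact) (h₁ : CechAcyclic S.X₁)
    (h₂ : CechAcyclic S.X₂) : CechAcyclic S.X₃ := fun W V a hW hV hs ha p =>
  EtCechLib.isZero_cech_X₃ (Over.forget W) hS (fun _ : PUnit.{u + 2} => Over.mk a)
    (fun b => surjective_sections hS h₁ (inB_inter hW hV a ha (productIsProduct _)).1)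
    p (h₂ a hW hV hs ha p) (h₁ a hW hV hs ha (p + 1))

end Groth.Agent.EtCmp
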