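import Groth.Agent.ProEtWC.EpsLimit
import Groth.Agent.EtCechLib.Cartan
import Mathlib.CategoryTheory.Limits.Preserves.Shapes.Over
import Mathlib.CategoryTheory.Limits.Constructions.FiniteProductsOfBinaryProducts
import Mathlib.CategoryTheory.Limits.Constructions.Over.Products

/-!
# Čech exactness of `ε⁻¹F` passes to cofiltered limits of affine coverings
-/

set_option autoImplicit false
set_option linter.all false
set_option backward.isDefEq.respectTransparency.types false
set_option backward.isDefEq.respectTransparency false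
set_option synthInstance.maxHeartbeats 400000
set_option maxHeartbeats 1000000

universe u

open CategoryTheory Limits AlgebraicGeometry Opposite
open Groth.Agent.SiteCoh Groth.Agent.ProEtWC.EpsUnit

namespace Groth.Agent.EtCmp

variable {X : Scheme.{u}}

/-- Affine objects are closed under finite fibre products over affine objects. -/
theorem isAffine_fan [∀ U : X.ProEt, HasFiniteProducts (Over U)] {U : X.ProEt} (hU : IsAffine U.left) :
    ∀ {n : ℕ} (f : Fin n → Over U), (∀ k, IsAffine (f k).left.left) → ∀ {c : Fan f}, IsLimit c →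
      IsAffine c.pt.left.left := by
  intro n
  induction n with
  | zero =>
    intro f _ c hc
    have hT : IsTerminal c.pt := IsTerminal.ofUniqueHom
      (fun Z => hc.lift (Fan.mk Z (fun k => Fin.elim0 k)))
      (fun Z m => hc.hom_ext fun ⟨k⟩ => Fin.elim0 k)
    haveI : IsAffine ((Scheme.ProEt.forget X ⋙ CategoryTheory.Over.forget X).obj
        ((Over.forget U).obj (Over.mk (𝟙 U)))) := hU
    exact IsAffine.of_isIso ((Scheme.ProEt.forget X ⋙ CategoryTheory.Over.forget X).mapIso
      ((Over.forget U).mapIso (Over.mkIdTerminal.uniqueUpToIso hT))).inv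
  | succ n ih =>
    intro f hf c hc
    let c₁ : Fan fun i : Fin n => f i.succ := Fan.mk _ (Pi.π fun i : Fin n => f i.succ)
    let t₁ : IsLimit c₁ := productIsProduct _
    haveI : HasPullbacks X.ProEt := inferInstance
    let t₂ := prodIsProd (f 0) c₁.pt
    haveI : IsAffine c₁.pt.left.left := ih _ (fun k => hf k.succ) t₁
    haveI := hf 0
    have h := (Over.isPullback_of_binaryFan_isLimit _ t₂).map
      (Scheme.ProEt.forget X ⋙ CategoryTheory.Over.forget X)
    haveI : IsAffineHom ((Scheme.ProEt.forget X ⋙ CategoryTheory.Over.forget X).map c₁.pt.hom) := by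
      haveI : IsAffine ((Scheme.ProEt.forget X ⋙ CategoryTheory.Over.forget X).obj c₁.pt.left) :=
        ih _ (fun k => hf k.succ) t₁
      haveI : IsAffine ((Scheme.ProEt.forget X ⋙ CategoryTheory.Over.forget X).obj U) := hU
      exact inferInstance
    haveI := MorphismProperty.of_isPullback (P := @IsAffineHom) h.flip inferInstance
    haveI : IsAffine ((Scheme.ProEt.forget X ⋙ CategoryTheory.Over.forget X).obj (f 0).left) := hf 0
    haveI : IsAffine ((Scheme.ProEt.forget X ⋙ CategoryTheory.Over.forget X).obj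
        ((pair (f 0) c₁.pt).obj ⟨WalkingPair.left⟩).left) := hf 0
    haveI hpt : IsAffine ((Scheme.ProEt.forget X ⋙ CategoryTheory.Over.forget X).obj
        (BinaryFan.mk (Limits.prod.fst : f 0 ⨯ c₁.pt ⟶ f 0) Limits.prod.snd).pt.left) :=
      isAffine_of_isAffineHom ((Scheme.ProEt.forget X ⋙ CategoryTheory.Over.forget X).map
        (BinaryFan.fst (BinaryFan.mk (Limits.prod.fst : f 0 ⨯ c₁.pt ⟶ f 0) Limits.prod.snd)).left)
    exact @IsAffine.of_isIso _ _ ((Scheme.ProEt.forget X ⋙ CategoryTheory.Over.forget X).mapIso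
      ((Over.forget U).mapIso ((extendFanIsLimit f t₁ t₂).conePointUniqueUpToIso hc))).inv inferInstance hpt

variable [∀ U : X.ProEt, HasFiniteProducts (Over U)] {I : Type u} [SmallCategory I]
  {D D' : I ⥤ X.ProEt} (π : D' ⟶ D)

/-- The singleton family at a stage. -/
noncomputable abbrev fam (i : I) : PUnit.{u + 2} → Over (D.obj i) := fun _ => Over.mk (π.app i)

variable {n : ℕ} (a : Fin (n + 1) → PUnit.{u + 2})

noncomputable abbrev prj (i : I) (k : Fin (n + 1)) : (Cech.inter (fam π i) a).left ⟶ D'.obj i :=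
  (Pi.π (fun k => fam π i (a k)) k).left

theorem prj_w (i : I) (k : Fin (n + 1)) : prj π a i k ≫ π.app i = (Cech.inter (fam π i) a).hom :=
  Over.w (Pi.π (fun k => fam π i (a k)) k)

theorem pw_ext {i : I} {Z : X.ProEt} (f g : Z ⟶ (Cech.inter (fam π i) a).left)
    (h : ∀ k, f ≫ prj π a i k = g ≫ prj π a i k) : f = g := by
  have hg : g ≫ (Cech.inter (fam π i) a).hom = f ≫ (Cech.inter (fam π i) a).hom := by
    rw [← prj_w π a i 0, ← Category.assoc, ← Category.assoc, h 0]
  have : (Over.homMk f rfl : Over.mk (f ≫ (Cech.inter (fam π i) a).hom) ⟶ Cech.inter (fam π i) a) =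
      Over.homMk g hg := Pi.hom_ext _ _ fun k => by
    ext
    exact h k
  exact congrArg (fun m : Over.mk (f ≫ (Cech.inter (fam π i) a).hom) ⟶ Cech.inter (fam π i) a => m.left) this

noncomputable def pwMap {i j : I} (φ : i ⟶ j) :
    (Cech.inter (fam π i) a).left ⟶ (Cech.inter (fam π j) a).left :=
  (Pi.lift (f := fun k => fam π j (a k)) fun k =>
    (Over.homMk (prj π a i k ≫ D'.map φ) (by
      show (prj π a i k ≫ D'.map φ) ≫ π.app j = _
      rw [Category.assoc, π.naturality, ← Category.assoc, prj_w]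
      rfl) : Over.mk ((Cech.inter (fam π i) a).hom ≫ D.map φ) ⟶ fam π j (a k))).left

theorem pwMap_prj {i j : I} (φ : i ⟶ j) (k : Fin (n + 1)) :
    pwMap π a φ ≫ prj π a j k = prj π a i k ≫ D'.map φ := by
  rw [pwMap]
  show (Pi.lift _ ≫ Pi.π (fun k => fam π j (a k)) k).left = _
  rw [Pi.lift_π]
  rfl

/-- The fibre powers of the family of coverings. -/
noncomputable def pw : I ⥤ X.ProEt where
  obj i := (Cech.inter (fam π i) a).left
  map φ := pwMap π a φ
  map_id i := pw_ext π a _ _ fun k => by rw [pwMap_prj]; simp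
  map_comp f g := pw_ext π a _ _ fun k => by
    rw [pwMap_prj, Category.assoc, pwMap_prj, ← Category.assoc (pwMap π a f), pwMap_prj]; simp

variable (c : Cone D) (c' : Cone D') (p : c'.pt ⟶ c.pt) (hp : ∀ i, c'.π.app i ≫ π.app i = p ≫ c.π.app i)

noncomputable abbrev famLim : PUnit.{u + 2} → Over c.pt := fun _ => Over.mk p

noncomputable abbrev prjLim (k : Fin (n + 1)) : (Cech.inter (famLim c c' p) a).left ⟶ c'.pt :=
  (Pi.π (fun k => famLim c c' p (a k)) k).left

noncomputable def pwProj (i : I) : (Cech.inter (famLim c c' p) a).left ⟶ (Cech.inter (fam π i) a).left :=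
  (Pi.lift (f := fun k => fam π i (a k)) fun k =>
    (Over.homMk (prjLim a c c' p k ≫ c'.π.app i) (by
      show (prjLim a c c' p k ≫ c'.π.app i) ≫ π.app i = (Cech.inter (famLim c c' p) a).hom ≫ c.π.app i
      rw [Category.assoc, hp, ← Category.assoc]
      exact congrArg (fun m => m ≫ c.π.app i) (Over.w (Pi.π (fun k => famLim c c' p (a k)) k))) :
      Over.mk ((Cech.inter (famLim c c' p) a).hom ≫ c.π.app i) ⟶ fam π i (a k))).left

theorem pwProj_prj (i : I) (k : Fin (n + 1)) :
    pwProj π a c c' p hp i ≫ prj π a i k = prjLim a c c' p k ≫ c'.π.app i := by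
  rw [pwProj]
  show (Pi.lift _ ≫ Pi.π (fun k => fam π i (a k)) k).left = _
  rw [Pi.lift_π]
  rfl

noncomputable def pwCone : Cone (pw π a) where
  pt := (Cech.inter (famLim c c' p) a).left
  π :=
    { app := pwProj π a c c' p hp
      naturality := fun i j φ => by
        dsimp
        rw [Category.id_comp]
        refine pw_ext π a _ _ fun k => ?_
        show pwProj π a c c' p hp j ≫ prj π a j k = (pwProj π a c c' p hp i ≫ pwMap π a φ) ≫ prj π a j k
        rw [Category.assoc, pwMap_prj, pwProj_prj, ← Category.assoc (pwProj π a c c' p hp i), pwProj_prj,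
          Category.assoc, c'.w] }

include hp in
theorem nonempty_isLimit_pwCone [IsCofiltered I]
    (hc : IsLimit ((Scheme.ProEt.forget X ⋙ CategoryTheory.Over.forget X).mapCone c))
    (hc' : IsLimit ((Scheme.ProEt.forget X ⋙ CategoryTheory.Over.forget X).mapCone c')) :
    Nonempty (IsLimit ((Scheme.ProEt.forget X ⋙ CategoryTheory.Over.forget X).mapCone (pwCone π a c c' p hp))) := by
  let Φ := Scheme.ProEt.forget X ⋙ CategoryTheory.Over.forget X
  let P := Over.post (X := c.pt) Φ
  let T₀ := Fan.mk (Cech.inter (famLim c c' p) a) (Pi.π fun k => famLim c c' p (a k))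
  have hT₀ : IsLimit T₀ := productIsProduct _
  have hT := isLimitFanMkObjOfIsLimit P _ _ hT₀
  have hsm : ∀ {i : I} {Z : Scheme.{u}} (f g : Z ⟶ Φ.obj (Cech.inter (fam π i) a).left),
      (∀ k, f ≫ Φ.map (prj π a i k) = g ≫ Φ.map (prj π a i k)) → f = g := by
    intro i Z f g h
    let Pi' := Over.post (X := D.obj i) Φ
    have hi := isLimitFanMkObjOfIsLimit Pi' _ _ (productIsProduct fun k => fam π i (a k))
    have hg : g ≫ Φ.map (Cech.inter (fam π i) a).hom = f ≫ Φ.map (Cech.inter (fam π i) a).hom := by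
      rw [← prj_w π a i 0, Functor.map_comp, ← Category.assoc, ← Category.assoc, h 0]
    have : (CategoryTheory.Over.homMk f rfl : CategoryTheory.Over.mk (f ≫ Φ.map (Cech.inter (fam π i) a).hom) ⟶
        Pi'.obj (Cech.inter (fam π i) a)) = CategoryTheory.Over.homMk g hg :=
      Fan.IsLimit.hom_ext hi _ _ fun k => by ext; exact h k
    exact congrArg (fun m : CategoryTheory.Over.mk (f ≫ Φ.map (Cech.inter (fam π i) a).hom) ⟶
      Pi'.obj (Cech.inter (fam π i) a) => m.left) this
  have key : ∀ s : Cone (pw π a ⋙ Φ), ∃! l : s.pt ⟶ Φ.obj (Cech.inter (famLim c c' p) a).left,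
      ∀ i, l ≫ Φ.map (pwProj π a c c' p hp i) = s.π.app i := by
    intro s
    have hnat : ∀ {i j : I} (φ : i ⟶ j), s.π.app i ≫ Φ.map (pwMap π a φ) = s.π.app j := fun φ => s.w φ
    let sk : Fin (n + 1) → Cone (D' ⋙ Φ) := fun k =>
      { pt := s.pt
        π :=
          { app := fun i => s.π.app i ≫ Φ.map (prj π a i k)
            naturality := fun i j φ => by
              dsimp
              rw [Category.id_comp, Category.assoc, ← hnat φ, Category.assoc]
              congr 1
              exact (Φ.map_comp _ _).symm.trans ((congrArg Φ.map (pwMap_prj π a φ k)).trans (Φ.map_comp _ _)) } }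
    let lk : Fin (n + 1) → (s.pt ⟶ Φ.obj c'.pt) := fun k => hc'.lift (sk k)
    have hlk : ∀ k i, lk k ≫ Φ.map (c'.π.app i) = s.π.app i ≫ Φ.map (prj π a i k) := fun k i => hc'.fac (sk k) i
    let l₀ : s.pt ⟶ Φ.obj c.pt := lk 0 ≫ Φ.map p
    have hw : ∀ k, lk k ≫ Φ.map p = l₀ := fun k => hc.hom_ext fun i => by
      show (lk k ≫ Φ.map p) ≫ Φ.map (c.π.app i) = (lk 0 ≫ Φ.map p) ≫ Φ.map (c.π.app i)
      rw [Category.assoc, Category.assoc, ← Functor.map_comp, ← hp, Functor.map_comp, ← Category.assoc,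
        ← Category.assoc, hlk, hlk, Category.assoc, Category.assoc, ← Functor.map_comp, ← Functor.map_comp,
        prj_w, prj_w]
    let L : CategoryTheory.Over.mk l₀ ⟶ P.obj (Cech.inter (famLim c c' p) a) :=
      Fan.IsLimit.lift hT fun k => CategoryTheory.Over.homMk (lk k) (hw k)
    have hL : ∀ k, L.left ≫ Φ.map (prjLim a c c' p k) = lk k := fun k => by
      have h1 : L ≫ P.map (Pi.π (fun k => famLim c c' p (a k)) k) = CategoryTheory.Over.homMk (lk k) (hw k) :=
        Fan.IsLimit.fac hT _ k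
      exact congrArg (fun m : CategoryTheory.Over.mk l₀ ⟶ P.obj (famLim c c' p (a k)) => m.left) h1
    have hfac : ∀ i, L.left ≫ Φ.map (pwProj π a c c' p hp i) = s.π.app i := fun i => hsm _ _ fun k => by
      rw [Category.assoc, ← Functor.map_comp, pwProj_prj, Functor.map_comp, ← Category.assoc, hL, hlk]
    refine ⟨L.left, hfac, fun m hm => ?_⟩
    have hk : ∀ k, m ≫ Φ.map (prjLim a c c' p k) = lk k := fun k => hc'.hom_ext fun i => by
      show (m ≫ Φ.map (prjLim a c c' p k)) ≫ Φ.map (c'.π.app i) = lk k ≫ Φ.map (c'.π.app i)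
      rw [Category.assoc, ← Functor.map_comp, ← pwProj_prj π a c c' p hp, Functor.map_comp, ← Category.assoc,
        hm i, hlk]
    have hmw : m ≫ Φ.map (Cech.inter (famLim c c' p) a).hom = l₀ := by
      rw [← Over.w (Pi.π (fun k => famLim c c' p (a k)) 0)]
      show m ≫ Φ.map (prjLim a c c' p 0 ≫ p) = l₀
      rw [Functor.map_comp, ← Category.assoc, hk]
    have : (CategoryTheory.Over.homMk m hmw : CategoryTheory.Over.mk l₀ ⟶ P.obj (Cech.inter (famLim c c' p) a)) = L :=
      Fan.IsLimit.hom_ext hT _ _ fun k => by ext; exact (hk k).trans (hL k).symm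
    exact congrArg (fun t : CategoryTheory.Over.mk l₀ ⟶ P.obj (Cech.inter (famLim c c' p) a) => t.left) this
  exact ⟨{
    lift := fun s => (key s).exists.choose
    fac := fun s => (key s).exists.choose_spec
    uniq := fun s m hm => (key s).unique hm (key s).exists.choose_spec }⟩

section Cech

variable [IsCofiltered I] (F : EtCoh.Ab X)

/-- Čech exactness at every stage gives Čech exactness at the limit. -/
theorem isZero_cech_limit
    (hD : ∀ i, IsAffine (D.obj i).left) (hD' : ∀ i, IsAffine (D'.obj i).left)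
    (c : Cone D) (hc : IsLimit ((Scheme.ProEt.forget X ⋙ CategoryTheory.Over.forget X).mapCone c))
    (c' : Cone D') (hc' : IsLimit ((Scheme.ProEt.forget X ⋙ CategoryTheory.Over.forget X).mapCone c'))
    (p : c'.pt ⟶ c.pt) (hp : ∀ i, c'.π.app i ≫ π.app i = p ≫ c.π.app i)
    (q : ℕ) (h : ∀ i, IsZero ((Cech.cx ((Over.forget (D.obj i)).op ⋙ (G F).obj) (fam π i)).homology (q + 1))) :
    IsZero ((Cech.cx ((Over.forget c.pt).op ⋙ (G F).obj) (famLim c c' p)).homology (q + 1)) := by
  have haff : ∀ {m : ℕ} (b : Fin (m + 1) → PUnit.{u + 2}) (i : I), IsAffine ((pw π b).obj i).left :=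
    fun b i => isAffine_fan (hD i) _ (fun k => hD' i) (productIsProduct _)
  have surj : ∀ {m : ℕ} (b : Fin (m + 1) → PUnit.{u + 2})
      (s : (G F).obj.obj (op (Cech.inter (famLim c c' p) b).left)),
      ∃ (i : I) (t : (G F).obj.obj (op ((pw π b).obj i))), (G F).obj.map (pwProj π b c c' p hp i).op t = s := by
    intro m b s
    obtain ⟨hl⟩ := nonempty_isLimit_pwCone π b c c' p hp hc hc'
    haveI : ∀ i, IsAffine ((pw π b).obj i).left := haff b
    haveI : ∀ (i j : I) (f : i ⟶ j), IsAffineHom ((pw π b).map f).left := fun i j f => inferInstance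
    haveI : ∀ i, CompactSpace ↥((pw π b).obj i).left := fun i => inferInstance
    haveI : ∀ i, QuasiSeparatedSpace ↥((pw π b).obj i).left := fun i => inferInstance
    exact exists_stage_section F (pwCone π b c c' p hp) hl s
  have inj : ∀ {m : ℕ} (b : Fin (m + 1) → PUnit.{u + 2}) (i : I)
      (t : (G F).obj.obj (op ((pw π b).obj i))), (G F).obj.map (pwProj π b c c' p hp i).op t = 0 →
      ∃ (k : I) (φ : k ⟶ i), (G F).obj.map ((pw π b).map φ).op t = 0 := by
    intro m b i t ht
    obtain ⟨hl⟩ := nonempty_isLimit_pwCone π b c c' p hp hc hc'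
    haveI : ∀ i, IsAffine ((pw π b).obj i).left := haff b
    haveI : ∀ (i j : I) (f : i ⟶ j), IsAffineHom ((pw π b).map f).left := fun i j f => inferInstance
    haveI : ∀ i, CompactSpace ↥((pw π b).obj i).left := fun i => inferInstance
    haveI : ∀ i, QuasiSeparatedSpace ↥((pw π b).obj i).left := fun i => inferInstance
    obtain ⟨k, φ, hk⟩ := exists_stage_eq F (pwCone π b c c' p hp) hl t 0 (ht.trans (map_zero _).symm)
    exact ⟨k, φ, hk.trans (map_zero _)⟩
  rw [Cech.isZero_homology_succ_iff]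
  intro x hx
  let P : ∀ i, (Over (D.obj i))ᵒᵖ ⥤ AddCommGrpCat.{u + 1} := fun i => (Over.forget (D.obj i)).op ⋙ (G F).obj
  let PL : (Over c.pt)ᵒᵖ ⥤ AddCommGrpCat.{u + 1} := (Over.forget c.pt).op ⋙ (G F).obj
  let res : ∀ {i k : I} (φ : k ⟶ i) (r : ℕ),
      (Cech.cx (P i) (fam π i)).X r → (Cech.cx (P k) (fam π k)).X r := fun {i k} φ r z =>
    Cech.mk _ _ fun b => (G F).obj.map (pwMap π b φ).op (Cech.ev (P i) (fam π i) b z)
  let lim : ∀ (i : I) (r : ℕ), (Cech.cx (P i) (fam π i)).X r → (Cech.cx PL (famLim c c' p)).X r := fun i r z =>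
    Cech.mk _ _ fun b => (G F).obj.map (pwProj π b c c' p hp i).op (Cech.ev (P i) (fam π i) b z)
  have hres : ∀ {i k : I} (φ : k ⟶ i) (r : ℕ) (z : (Cech.cx (P i) (fam π i)).X r),
      res φ (r + 1) ((Cech.cx (P i) (fam π i)).d r (r + 1) z) =
        (Cech.cx (P k) (fam π k)).d r (r + 1) (res φ r z) := fun {i k} φ r z => Cech.ext _ _ fun b => by
    rw [Cech.ev_mk, Cech.ev_d, Cech.ev_d, map_sum]
    refine Finset.sum_congr rfl fun j _ => ?_
    rw [map_zsmul, Cech.ev_mk]
    refine congrArg (fun w => (-1 : ℤ) ^ (j : ℕ) • w) ?_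
    show (G F).obj.map (pwMap π b φ).op ((G F).obj.map (Cech.face (fam π i) b j).left.op _) =
      (G F).obj.map (Cech.face (fam π k) b j).left.op ((G F).obj.map (pwMap π (b ∘ j.succAbove) φ).op _)
    rw [← Functor.map_comp_apply, ← Functor.map_comp_apply, ← op_comp, ← op_comp]
    refine congrArg (fun f => (G F).obj.map (Quiver.Hom.op f) _) (pw_ext π _ _ _ fun l => ?_)
    have e1 : ∀ i : I, (Cech.face (fam π i) b j).left ≫ prj π (b ∘ j.succAbove) i l = prj π b i (j.succAbove l) :=
      fun i => by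
        show (Pi.lift _ ≫ Pi.π (fun r => fam π i ((b ∘ j.succAbove) r)) l).left = _
        erw [Pi.lift_π]
    show (pwMap π b φ ≫ (Cech.face (fam π i) b j).left) ≫ prj π (b ∘ j.succAbove) i l =
      ((Cech.face (fam π k) b j).left ≫ pwMap π (b ∘ j.succAbove) φ) ≫ prj π (b ∘ j.succAbove) i l
    rw [Category.assoc, e1, Category.assoc, pwMap_prj, pwMap_prj, ← Category.assoc (Cech.face (fam π k) b j).left, e1]
  have hlim : ∀ (i : I) (r : ℕ) (z : (Cech.cx (P i) (fam π i)).X r),
      lim i (r + 1) ((Cech.cx (P i) (fam π i)).d r (r + 1) z) =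
        (Cech.cx PL (famLim c c' p)).d r (r + 1) (lim i r z) := fun i r z => Cech.ext _ _ fun b => by
    rw [Cech.ev_mk, Cech.ev_d, Cech.ev_d, map_sum]
    refine Finset.sum_congr rfl fun j _ => ?_
    rw [map_zsmul, Cech.ev_mk]
    refine congrArg (fun w => (-1 : ℤ) ^ (j : ℕ) • w) ?_
    show (G F).obj.map (pwProj π b c c' p hp i).op ((G F).obj.map (Cech.face (fam π i) b j).left.op _) =
      (G F).obj.map (Cech.face (famLim c c' p) b j).left.op ((G F).obj.map (pwProj π (b ∘ j.succAbove) c c' p hp i).op _)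
    rw [← Functor.map_comp_apply, ← Functor.map_comp_apply, ← op_comp, ← op_comp]
    refine congrArg (fun f => (G F).obj.map (Quiver.Hom.op f) _) (pw_ext π _ _ _ fun l => ?_)
    have e1 : (Cech.face (fam π i) b j).left ≫ prj π (b ∘ j.succAbove) i l = prj π b i (j.succAbove l) := by
      show (Pi.lift _ ≫ Pi.π (fun r => fam π i ((b ∘ j.succAbove) r)) l).left = _
      erw [Pi.lift_π]
    have e2 : (Cech.face (famLim c c' p) b j).left ≫ prjLim (b ∘ j.succAbove) c c' p l = prjLim b c c' p (j.succAbove l) := by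
      show (Pi.lift _ ≫ Pi.π (fun r => famLim c c' p ((b ∘ j.succAbove) r)) l).left = _
      erw [Pi.lift_π]
    show (pwProj π b c c' p hp i ≫ (Cech.face (fam π i) b j).left) ≫ prj π (b ∘ j.succAbove) i l =
      ((Cech.face (famLim c c' p) b j).left ≫ pwProj π (b ∘ j.succAbove) c c' p hp i) ≫ prj π (b ∘ j.succAbove) i l
    rw [Category.assoc, e1, Category.assoc, pwProj_prj, pwProj_prj,
      ← Category.assoc (Cech.face (famLim c c' p) b j).left, e2]
  have hlimres : ∀ {i k : I} (φ : k ⟶ i) (r : ℕ) (z : (Cech.cx (P i) (fam π i)).X r),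
      lim k r (res φ r z) = lim i r z := fun {i k} φ r z => Cech.ext _ _ fun b => by
    rw [Cech.ev_mk, Cech.ev_mk, Cech.ev_mk, ← Functor.map_comp_apply, ← op_comp]
    exact congrArg (fun f => (G F).obj.map (Quiver.Hom.op f) _) ((pwCone π b c c' p hp).w φ)
  let a₁ : Fin (q + 1 + 1) → PUnit.{u + 2} := fun _ => PUnit.unit
  have ha₁ : ∀ b : Fin (q + 1 + 1) → PUnit.{u + 2}, b = a₁ := fun b => Subsingleton.elim _ _
  obtain ⟨i, t, ht⟩ := surj a₁ (Cech.ev PL (famLim c c' p) a₁ x)
  let z : (Cech.cx (P i) (fam π i)).X (q + 1) :=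
    Cech.mk _ _ fun b => (ha₁ b).symm ▸ t
  have hz : lim i (q + 1) z = x := Cech.ext _ _ fun b => by
    obtain rfl := ha₁ b
    rw [Cech.ev_mk, Cech.ev_mk]
    exact ht
  let a₂ : Fin (q + 1 + 1 + 1) → PUnit.{u + 2} := fun _ => PUnit.unit
  obtain ⟨k, φ, hk⟩ := inj a₂ i (Cech.ev (P i) (fam π i) a₂ ((Cech.cx (P i) (fam π i)).d (q + 1) (q + 2) z)) (by
    have : Cech.ev PL (famLim c c' p) a₂ (lim i (q + 2) ((Cech.cx (P i) (fam π i)).d (q + 1) (q + 2) z)) = 0 := by
      rw [hlim i (q + 1) z, hz, hx, map_zero]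
    rw [Cech.ev_mk] at this
    exact this)
  obtain ⟨y, hy⟩ := (Cech.isZero_homology_succ_iff _ _ q).1 (h k) (res φ (q + 1) z) (by
    rw [← hres]
    refine Cech.ext _ _ fun b => ?_
    obtain rfl : b = a₂ := Subsingleton.elim _ _
    rw [Cech.ev_mk, map_zero]
    exact hk)
  exact ⟨lim k q y, by rw [← hlim, hy, hlimres, hz]⟩

end Cech

end Groth.Agent.EtCmp
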