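import Groth.Agent.EtCmp.InB
import Groth.Agent.EtCechLib.Transfer
import Groth.Agent.EtCechLib.Etale

/-!
# Čech acyclicity of the pullback of an injective étale sheaf
-/

set_option autoImplicit false
set_option linter.all false
set_option backward.isDefEq.respectTransparency.types false
set_option backward.isDefEq.respectTransparency false
set_option synthInstance.maxHeartbeats 400000
set_option maxHeartbeats 1000000

universe u

open CategoryTheory Limits AlgebraicGeometry Opposite
open Groth.Agent.SiteCoh Groth.Agent.ProEtWC.EpsUnit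

namespace Groth.Agent.EtCmp

variable {X : Scheme.{u}}

/-- The comparison of a sheaf with the sections of its pullback on étale objects. -/
noncomputable def thetaNat (F : EtCoh.Ab X) : F.obj ⟶ (ProEtS.eps X).op ⋙ (G F).obj :=
  (ProEtS.eps X).op.lanUnit.app F.obj ≫
    Functor.whiskerLeft (ProEtS.eps X).op (toSheafify (Scheme.ProEt.topology X) (L F))

theorem isIso_thetaNat [ProEtS.EpsCont X] (F : EtCoh.Ab X) : IsIso (thetaNat F) := by
  let J := X.smallEtaleTopology
  let T : EtCoh.Ab X := ⟨(ProEtS.eps X).op ⋙ (G F).obj,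
    Functor.op_comp_isSheaf (ProEtS.eps X) J (Scheme.ProEt.topology X) (G F)⟩
  let φ : F ⟶ T := ⟨thetaNat F⟩
  haveI : Presheaf.IsLocallyInjective J φ.hom :=
    ⟨fun {U} a b hab => by
      obtain rfl : a = b := theta_injective F U.unop hab
      simp⟩
  haveI : Presheaf.IsLocallySurjective J φ.hom :=
    ⟨fun {U} s => HenselLib.Kummer.mem_of_points U _ fun u => by
      obtain ⟨V, p, v, hv, t, ht⟩ := theta_imageSieve F U s u
      exact ⟨V, p, v, ⟨t, ht⟩, hv⟩⟩
  haveI : IsIso φ := (Sheaf.isLocallyBijective_iff_isIso _).1 ⟨inferInstance, inferInstance⟩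
  exact inferInstanceAs (IsIso ((sheafToPresheaf J AddCommGrpCat.{u + 1}).map φ))

variable (I : EtCoh.Ab X) [Injective I] [ProEtS.EpsCont X]

/-- Stage zero: étale objects over `X`. -/
theorem isZero_cech_etale {W V : X.ProEt} (a : V ⟶ W) (hW : Etale W.hom) (ha : Etale a.left) (p : ℕ) :
    IsZero ((Cech.cx ((Over.forget W).op ⋙ (G I).obj)
      (fun _ : PUnit.{u + 2} => Over.mk a)).homology (p + 1)) := by
  have hV : Etale V.hom := by
    have e : a.left ≫ W.hom = V.hom := CategoryTheory.Over.w a.hom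
    rw [← e]
    infer_instance
  let W₀ : X.Etale := Scheme.Etale.mk W.hom
  let V₀ : X.Etale := Scheme.Etale.mk V.hom
  let a₀ : V₀ ⟶ W₀ := MorphismProperty.Over.homMk a.left (CategoryTheory.Over.w a.hom) trivial
  show IsZero ((Cech.cx ((Over.forget ((ProEtS.eps X).obj W₀)).op ⋙ (G I).obj)
      (fun _ : PUnit.{u + 2} => (Over.post (X := W₀) (ProEtS.eps X)).obj (Over.mk a₀))).homology (p + 1))
  rw [← EtCechLib.isZero_homology_comp_iff (Over.post (X := W₀) (ProEtS.eps X))
    ((Over.forget ((ProEtS.eps X).obj W₀)).op ⋙ (G I).obj) (fun _ : PUnit.{u + 2} => Over.mk a₀) p]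
  haveI := isIso_thetaNat I
  let φ : (Over.forget W₀).op ⋙ I.obj ⟶
      (Over.post (X := W₀) (ProEtS.eps X)).op ⋙ (Over.forget ((ProEtS.eps X).obj W₀)).op ⋙ (G I).obj :=
    Functor.whiskerLeft (Over.forget W₀).op (thetaNat I)
  haveI : IsIso φ := inferInstanceAs
    (IsIso ((Functor.whiskeringLeft _ _ AddCommGrpCat.{u + 1}).obj (Over.forget W₀).op |>.map (thetaNat I)))
  refine Cech.isZero_homology_of_retract _ (inv φ) φ (IsIso.inv_hom_id φ) p ?_
  exact EtCechLib.isZero_cechH_of_injective I (fun _ : PUnit.{u + 2} => Over.mk a₀) p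

theorem isZero_cech_of_descent {W U₀ : X.ProEt} [IsAffine W.left] [IsAffine U₀.left] {g : W ⟶ U₀} (P : Pres g)
    (hPX : ∀ i, Etale (P.D.obj i).hom) {V : X.ProEt} [IsAffine V.left] (a : V ⟶ W)
    (hs : Function.Surjective a.left) {i : P.I} {T : Scheme.{u}} [IsAffine T] (q₀ : T ⟶ (P.D.obj i).left)
    [Etale q₀] (b₀ : V.left ⟶ T) (sq₀ : IsPullback b₀ a.left q₀ (P.π.app i).left) (p : ℕ) :
    IsZero ((Cech.cx ((Over.forget W).op ⋙ (G I).obj)
      (fun _ : PUnit.{u + 2} => Over.mk a)).homology (p + 1)) := by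
  let Φ := Scheme.ProEt.forget X ⋙ CategoryTheory.Over.forget X
  haveI : ∀ k, IsAffine ((P.D ⋙ Φ).obj k) := P.affine
  haveI : ∀ k, CompactSpace ↥((P.D ⋙ Φ).obj k) := fun k => inferInstance
  haveI : ∀ {k l : P.I} (φ : k ⟶ l), IsAffineHom ((P.D ⋙ Φ).map φ) := fun φ => inferInstance
  -- shrink the stage to make the covering surjective
  let O : ((P.D ⋙ Φ).obj i).Opens := ⟨Set.range q₀, q₀.isOpenMap.isOpen_range⟩
  obtain ⟨j, φ, hj⟩ := exists_map_eq_top (P.D ⋙ Φ) _ P.isLimit (i := i) O (by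
    rw [← top_le_iff]
    intro x _
    obtain ⟨v, hv⟩ := hs x
    show (P.π.app i).left x ∈ Set.range q₀
    refine ⟨b₀ v, ?_⟩
    rw [← hv]
    exact congrArg (fun m => m v) sq₀.w)
  let qs : pullback q₀ (P.D.map φ).left ⟶ (P.D.obj j).left := pullback.snd q₀ (P.D.map φ).left
  haveI : IsAffine (P.D.obj i).left := P.affine i
  haveI : IsAffine (P.D.obj j).left := P.affine j
  haveI : IsAffine (pullback q₀ (P.D.map φ).left) := inferInstance
  haveI hqs : Etale qs := MorphismProperty.pullback_snd (P := @Etale) _ _ inferInstance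
  haveI : WeaklyEtale (P.D.obj j).hom := (P.D.obj j).prop
  haveI : WeaklyEtale qs := inferInstance
  let Q : X.ProEt := Scheme.ProEt.mk (qs ≫ (P.D.obj j).hom)
  let q : Q ⟶ P.D.obj j := MorphismProperty.Over.homMk qs rfl trivial
  haveI : IsAffine Q.left := inferInstanceAs (IsAffine (pullback q₀ (P.D.map φ).left))
  have hπ : ∀ {k l : P.I} (ψ : k ⟶ l), P.π.app k ≫ P.D.map ψ = P.π.app l := fun ψ => by
    simpa using (P.π.naturality ψ).symm
  have hw : b₀ ≫ q₀ = (a.left ≫ (P.π.app j).left) ≫ (P.D.map φ).left := by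
    rw [sq₀.w, Category.assoc, ← hπ φ]
    rfl
  let bs : V.left ⟶ pullback q₀ (P.D.map φ).left := pullback.lift b₀ (a.left ≫ (P.π.app j).left) hw
  have hbs : bs ≫ qs = a.left ≫ (P.π.app j).left := pullback.lift_snd _ _ _
  let b : V ⟶ Q := MorphismProperty.Over.homMk bs (by
    show bs ≫ qs ≫ (P.D.obj j).hom = V.hom
    rw [reassoc_of% hbs]
    exact (congrArg (fun m => a.left ≫ m) (CategoryTheory.Over.w (P.π.app j).hom)).trans
      (CategoryTheory.Over.w a.hom)) trivial
  have hb : b ≫ q = a ≫ P.π.app j := Φ.map_injective hbs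
  have sq : IsPullback b.left a.left q.left (P.π.app j).left := by
    refine IsPullback.of_right ?_ hbs (IsPullback.of_hasPullback q₀ (P.D.map φ).left)
    have e : (P.π.app i).left = (P.π.app j).left ≫ (P.D.map φ).left := by rw [← hπ φ]; rfl
    rw [← e, show b.left ≫ pullback.fst q₀ (P.D.map φ).left = b₀ from pullback.lift_fst _ _ _]
    exact sq₀
  have hq : Function.Surjective q.left := fun x => by
    obtain ⟨t, ht⟩ : (P.D.map φ).left x ∈ Set.range q₀ := hj.ge (TopologicalSpace.Opens.mem_top x)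
    obtain ⟨z, -, hz⟩ := Scheme.exists_preimage_of_isPullback
      (IsPullback.of_hasPullback q₀ (P.D.map φ).left) t x ht
    exact ⟨z, hz⟩
  -- the coverings at the later stages
  let D₁ : Over j ⥤ X.ProEt := Over.forget j ⋙ P.D
  let D₂ : Over j ⥤ X.ProEt := Over.post P.D ⋙ Over.pullback q ⋙ Over.forget Q
  let π₂ : D₂ ⟶ D₁ :=
    { app := fun k => pullback.fst (P.D.map k.hom) q
      naturality := fun k l ψ => pullback.lift_fst _ _ _ }
  let cW : Cone P.D := Cone.mk W P.π
  let c₁ : Cone D₁ := cW.whisker (Over.forget j)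
  have hwk : ∀ k : Over j, (a ≫ P.π.app k.left) ≫ P.D.map k.hom = b ≫ q := fun k => by
    rw [hb, Category.assoc, hπ]
  let c₂ : Cone D₂ :=
    { pt := V
      π :=
        { app := fun k => pullback.lift (a ≫ P.π.app k.left) b (hwk k)
          naturality := fun k l ψ => by
            refine (Category.id_comp _).trans ?_
            symm
            apply pullback.hom_ext
            · refine (Category.assoc _ _ _).trans ?_
              have e1 : D₂.map ψ ≫ pullback.fst (P.D.map l.hom) q = pullback.fst (P.D.map k.hom) q ≫ P.D.map ψ.left :=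
                pullback.lift_fst _ _ _
              have e2 : pullback.lift (a ≫ P.π.app k.left) b (hwk k) ≫ pullback.fst (P.D.map k.hom) q ≫ P.D.map ψ.left =
                  a ≫ P.π.app l.left :=
                (Category.assoc _ _ _).symm.trans ((congrArg (fun m => m ≫ P.D.map ψ.left) (pullback.lift_fst _ _ _)).trans
                  ((Category.assoc _ _ _).trans (congrArg (fun m => a ≫ m) (hπ ψ.left))))
              exact ((congrArg (fun m => pullback.lift (a ≫ P.π.app k.left) b (hwk k) ≫ m) e1).trans e2).trans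
                (pullback.lift_fst _ _ _).symm
            · refine (Category.assoc _ _ _).trans ?_
              have e1 : D₂.map ψ ≫ pullback.snd (P.D.map l.hom) q = pullback.snd (P.D.map k.hom) q :=
                pullback.lift_snd _ _ _
              exact ((congrArg (fun m => pullback.lift (a ≫ P.π.app k.left) b (hwk k) ≫ m) e1).trans
                (pullback.lift_snd _ _ _)).trans (pullback.lift_snd _ _ _).symm } }
  have hc₁ : IsLimit (Φ.mapCone c₁) :=
    (Functor.Initial.isLimitWhiskerEquiv (Over.forget j) (Φ.mapCone cW)).symm P.isLimit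
  have hpb : ∀ k : Over j, IsPullback (Φ.map (pullback.snd (P.D.map k.hom) q))
      (Φ.map (pullback.fst (P.D.map k.hom) q)) (Φ.map q) (Φ.map (P.D.map k.hom)) := fun k =>
    (IsPullback.of_hasPullback (P.D.map k.hom) q).flip.map Φ
  have hf : ∀ k : Over j, IsPullback (Φ.map (c₂.π.app k)) (Φ.map a) (Φ.map (π₂.app k)) (Φ.map (c₁.π.app k)) := by
    intro k
    refine IsPullback.of_right ?_ ?_ (hpb k)
    · have h1 : Φ.map (c₂.π.app k) ≫ Φ.map (pullback.snd (P.D.map k.hom) q) = Φ.map b :=
        (Φ.map_comp _ _).symm.trans (congrArg Φ.map (pullback.lift_snd _ _ _))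
      have h2 : Φ.map (c₁.π.app k) ≫ Φ.map (P.D.map k.hom) = Φ.map (P.π.app j) :=
        (Φ.map_comp _ _).symm.trans (congrArg Φ.map (hπ k.hom))
      rw [h1, h2]
      exact sq
    · exact ((Φ.map_comp _ _).symm.trans (congrArg Φ.map (pullback.lift_fst _ _ _))).trans (Φ.map_comp _ _)
  haveI : IsConnected (Over j) := IsCofiltered.isConnected _
  have hc₂ : IsLimit (Φ.mapCone c₂) :=
    isLimitOfIsPullbackOfIsConnected (Functor.whiskerRight π₂ Φ) (Φ.mapCone c₂) (Φ.mapCone c₁)
      { hom := Φ.map a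
        w := fun k => (hf k).w.symm } hf hc₁
  have hD₂ : ∀ k, IsAffine (D₂.obj k).left := fun k => by
    haveI : IsAffine (Φ.obj Q) := inferInstanceAs (IsAffine Q.left)
    haveI : IsAffine (Φ.obj (P.D.obj k.left)) := P.affine k.left
    haveI : IsAffine (Φ.obj (P.D.obj j)) := P.affine j
    exact IsAffine.of_isPullback (hpb k)
  refine isZero_cech_limit π₂ I (fun k => P.affine k.left) hD₂ c₁ hc₁ c₂ hc₂ a
    (fun k => pullback.lift_fst _ _ _) p fun k => ?_
  have he : Etale (π₂.app k).left :=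
    MorphismProperty.of_isPullback (P := @Etale) (hpb k) (inferInstanceAs (Etale qs))
  exact isZero_cech_etale I (π₂.app k) (hPX k.left) he p

/-- Stage one: étale coverings of ind-étale objects. -/
theorem isZero_cech_etaleCover {W V : X.ProEt} (hW : InB W) [IsAffine V.left] (a : V ⟶ W)
    (ha : Etale a.left) (hs : Function.Surjective a.left) (p : ℕ) :
    IsZero ((Cech.cx ((Over.forget W).op ⋙ (G I).obj)
      (fun _ : PUnit.{u + 2} => Over.mk a)).homology (p + 1)) := by
  obtain ⟨hWa, U, g, hU, hg⟩ := hW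
  haveI := hWa
  haveI : IsAffine ((ProEtS.eps X).obj U).left := hU
  obtain ⟨P⟩ := nonempty_pres g hg
  haveI : Etale ((ProEtS.eps X).obj U).hom := U.prop
  have hPX : ∀ i, Etale (P.D.obj i).hom := fun i => by
    haveI := P.etale i
    have e : (P.q.app i).left ≫ ((ProEtS.eps X).obj U).hom = (P.D.obj i).hom :=
      CategoryTheory.Over.w (P.q.app i).hom
    rw [← e]
    infer_instance
  let Φ := Scheme.ProEt.forget X ⋙ CategoryTheory.Over.forget X
  let cW : Cone P.D := Cone.mk W P.π
  -- descend the covering to a stage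
  let R : P.Iᵒᵖ ⥤ CommRingCat.{u} := (P.D ⋙ Φ).op ⋙ Scheme.Γ
  haveI : ∀ i, IsAffine (P.D.obj i).left := P.affine
  obtain ⟨i, T, r, ψ, hsq, hr⟩ : ∃ (i : P.I) (T : CommRingCat.{u}) (r : Γ((P.D.obj i).left, ⊤) ⟶ T)
      (ψ : T ⟶ Γ(V.left, ⊤)), IsPushout (P.π.app i).left.appTop r a.left.appTop ψ ∧
        HenselLib.IndEt.etaleMP r := by
    haveI : ∀ i, IsAffine ((P.D ⋙ Φ).obj i) := P.affine
    haveI : ∀ i, CompactSpace ↥((P.D ⋙ Φ).obj i) := fun i => inferInstance
    haveI : ∀ i, QuasiSeparatedSpace ↥((P.D ⋙ Φ).obj i) := fun i => inferInstance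
    haveI : ∀ {i j : P.I} (φ : i ⟶ j), IsAffineHom ((P.D ⋙ Φ).map φ) := fun φ => inferInstance
    let cR : Cocone R := Scheme.Γ.mapCocone ((Φ.mapCone cW).op)
    obtain ⟨hcR⟩ : Nonempty (IsColimit cR) :=
      nonempty_isColimit_Γ_mapCocone (P.D ⋙ Φ) (Φ.mapCone cW) P.isLimit
    obtain ⟨j, T, r, ψ, h1, h2⟩ := MorphismProperty.exists_isPushout_of_isFiltered (P := HenselLib.IndEt.etaleMP)
      hcR a.left.appTop ((HasRingHomProperty.iff_of_isAffine (P := @Etale) (X := V.left) (Y := W.left)).1 ha)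
    exact ⟨j.unop, T, r, ψ, h1, h2⟩
  haveI : IsAffine (P.D.obj i).left := P.affine i
  haveI : IsAffine (((Functor.const P.I).obj W).obj i).left := hWa
  let q₀ : Spec T ⟶ (P.D.obj i).left := Spec.map r ≫ (P.D.obj i).left.isoSpec.inv
  haveI : Etale (Spec.map r) := (HasRingHomProperty.Spec_iff (P := @Etale)).2 hr
  haveI : Etale q₀ := inferInstanceAs (Etale (Spec.map r ≫ _))
  let b₀ : V.left ⟶ Spec T := V.left.isoSpec.hom ≫ Spec.map ψ
  have sq₀ : IsPullback b₀ a.left q₀ (P.π.app i).left := by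
    refine (isPullback_SpecMap_of_isPushout _ _ _ _ hsq).flip.of_iso V.left.isoSpec.symm (Iso.refl _)
      W.left.isoSpec.symm (P.D.obj i).left.isoSpec.symm ?_ ?_ ?_ ?_
    · show Spec.map ψ ≫ 𝟙 _ = V.left.isoSpec.inv ≫ V.left.isoSpec.hom ≫ Spec.map ψ
      rw [Category.comp_id, Iso.inv_hom_id_assoc]
    · exact Scheme.isoSpec_inv_naturality a.left
    · show Spec.map r ≫ (P.D.obj i).left.isoSpec.inv = 𝟙 _ ≫ q₀
      rw [Category.id_comp]
    · exact Scheme.isoSpec_inv_naturality (P.π.app i).left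
  exact isZero_cech_of_descent I P hPX a hs q₀ b₀ sq₀ p

end Groth.Agent.EtCmp
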