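import Groth.Agent.EtCmp.Acyclic
import Groth.Agent.EtCmp.Exact
import Mathlib.CategoryTheory.Sites.SheafCohomology.Basic

/-!
# Acyclicity of `ε⁻¹I` for an injective étale sheaf `I`
-/

set_option autoImplicit false
set_option linter.all false
set_option backward.isDefEq.respectTransparency.types false
set_option backward.isDefEq.respectTransparency false
set_option synthInstance.maxHeartbeats 400000
set_option maxHeartbeats 1000000

universe u

open CategoryTheory Limits CategoryTheory.Abelian AlgebraicGeometry Opposite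
open Groth.Agent.SiteCoh

namespace Groth.Agent.EtCmp

variable {X : Scheme.{u}}

theorem CechAcyclic.of_iso {K K' : ProEtS.AbP X} (e : K ≅ K') (h : CechAcyclic K) : CechAcyclic K' :=
  fun W V a hW hV hs ha p => Cech.isZero_homology_of_retract _
    (Functor.whiskerLeft (Over.forget W).op ((sheafToPresheaf _ _).map e.inv))
    (Functor.whiskerLeft (Over.forget W).op ((sheafToPresheaf _ _).map e.hom))
    (by rw [← Functor.whiskerLeft_comp, ← Functor.map_comp, e.inv_hom_id, CategoryTheory.Functor.map_id,
      Functor.whiskerLeft_id']) p (h a hW hV hs ha p)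

variable [ProEtS.EpsCont X]

/-- The class of sheaves used for dimension shifting. -/
def Good (K : ProEtS.AbP X) : Prop := CechAcyclic K ∧ Injective ((ProEtS.epsPush X).obj K)

theorem good_pull (I : EtCoh.Ab X) [Injective I] : Good ((ProEtS.epsPull X).obj I) :=
  ⟨(cechAcyclic_G I).of_iso (pullIso X I).symm,
    Injective.of_iso (asIso ((ProEtS.epsAdj X).unit.app I)) inferInstance⟩

/-- `ε_*` of a map surjective on sections over affine étale objects is an epimorphism. -/
theorem epi_push {A B : ProEtS.AbP X} (g : A ⟶ B)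
    (h : ∀ W : X.ProEt, InB W → Function.Surjective (g.hom.app (op W))) : Epi ((ProEtS.epsPush X).map g) := by
  haveI : Sheaf.IsLocallySurjective ((ProEtS.epsPush X).map g) :=
    ⟨fun {U} s => HenselLib.Kummer.mem_of_points U _ fun u => by
      obtain ⟨O, hO, huO, -⟩ := exists_isAffineOpen_mem_and_subset (X := U.left) (x := u) (U := ⊤) trivial
      haveI : IsAffine (ProEtWC.EpsUnit.openE U O).left := hO
      obtain ⟨t, ht⟩ := h _ (inB_eps (ProEtWC.EpsUnit.openE U O))
        (B.obj.map ((ProEtS.eps X).map (ProEtWC.EpsUnit.openInclE U O)).op s)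
      exact ⟨ProEtWC.EpsUnit.openE U O, ProEtWC.EpsUnit.openInclE U O, ⟨u, huO⟩, ⟨t, ht⟩, rfl⟩⟩
  exact (Sheaf.isLocallySurjective_iff_epi' (A := AddCommGrpCat.{u + 1}) _).1 inferInstance

theorem shortExact_push {S : ShortComplex (ProEtS.AbP X)} (hS : S.ShortExact) (h₁ : CechAcyclic S.X₁) :
    (S.map (ProEtS.epsPush X)).ShortExact := by
  haveI := hS.mono_f
  haveI : PreservesLimitsOfSize.{0, 0} (ProEtS.epsPush X) := (ProEtS.epsAdj X).rightAdjoint_preservesLimits
  haveI : Mono ((ProEtS.epsPush X).map S.f) := inferInstance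
  exact { exact := hS.exact.map_of_mono_of_preservesKernel _ hS.mono_f inferInstance
          mono_f := ‹_›
          epi_g := epi_push S.g fun W hW => surjective_sections hS h₁ hW }

variable {S : ShortComplex (ProEtS.AbP X)}

theorem exists_section_push (hS : S.ShortExact) (h₁ : Good S.X₁) :
    ∃ s : (ProEtS.epsPush X).obj S.X₃ ⟶ (ProEtS.epsPush X).obj S.X₂,
      s ≫ (ProEtS.epsPush X).map S.g = 𝟙 _ := by
  haveI : Injective (S.map (ProEtS.epsPush X)).X₁ := h₁.2
  exact ⟨_, (shortExact_push hS h₁.1).splittingOfInjective.s_g⟩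

theorem good_X₃ (hS : S.ShortExact) (h₁ : Good S.X₁) [Injective S.X₂] : Good S.X₃ := by
  refine ⟨cechAcyclic_X₃ hS h₁.1 (cechAcyclic_of_injective S.X₂), ⟨fun {A B} g f _ => ?_⟩⟩
  haveI : Injective ((ProEtS.epsPush X).obj S.X₂) := Injective.injective_of_adjoint (ProEtS.epsAdj X) _
  obtain ⟨s, hs⟩ := exists_section_push hS h₁
  exact ⟨Injective.factorThru (g ≫ s) f ≫ (ProEtS.epsPush X).map S.g, by
    rw [← Category.assoc, Injective.comp_factorThru, Category.assoc, hs, Category.comp_id]⟩

/-- The final étale object. -/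
noncomputable abbrev topE (X : Scheme.{u}) : X.Etale := Scheme.Etale.mk (𝟙 X)

theorem surjective_top (hS : S.ShortExact) (h₁ : Good S.X₁) :
    Function.Surjective (S.g.hom.app (op (ProEtS.topP X))) := by
  obtain ⟨s, hs⟩ := exists_section_push hS h₁
  intro x
  exact ⟨s.hom.app (op (topE X)) x, ConcreteCategory.congr_hom
    (congrArg (fun m => m.hom.app (op (topE X))) hs) x⟩

/-- `topP X` is final. -/
noncomputable def isTerminalTopP (X : Scheme.{u}) : IsTerminal (ProEtS.topP X) :=
  IsTerminal.ofUniqueHom
    (fun W => MorphismProperty.Over.homMk W.hom (Category.comp_id W.hom) trivial)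
    (fun W m => (Scheme.ProEt.forget X ⋙ CategoryTheory.Over.forget X).map_injective
      ((Category.comp_id _).symm.trans (CategoryTheory.Over.w m.hom)))

/-- Good sheaves have no higher pro-étale cohomology. -/
theorem subsingleton_ext_good {Y : ProEtS.AbP X}
    (e : Y ≅ (constantSheaf (Scheme.ProEt.topology X) AddCommGrpCat.{u + 1}).obj
      (AddCommGrpCat.of (ULift.{u + 1} ℤ)))
    {K : ProEtS.AbP X} (hK : Good K) (n : ℕ) : Subsingleton (Ext.{u + 1} Y K (n + 1)) := by
  refine subsingleton_ext_of_class Good (fun Z => Z = Y) (fun F hF => ?_) rfl hK n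
  refine ⟨_, _, _, _, (injEmbed F).zero, inferInstanceAs (Injective (Injective.under F)),
    injEmbed_shortExact F, ?_, fun Z hZ a => ?_⟩
  · haveI : Injective (injEmbed F).X₂ := inferInstanceAs (Injective (Injective.under F))
    exact good_X₃ (injEmbed_shortExact F) hF
  · subst hZ
    obtain ⟨b, hb⟩ := EtCechLib.exists_lift_const (isTerminalTopP X) (injEmbed F).g
      (surjective_top (injEmbed_shortExact F) hF) (e.inv ≫ a)
    exact ⟨e.hom ≫ b, by rw [Category.assoc, hb, Iso.hom_inv_id_assoc]⟩

end Groth.Agent.EtCmp
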