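import Groth.Agent.EtCmp.InBCover
import Groth.Agent.EtCmp.Comparison
import Groth.Agent.EtGal.FlasqueRestr

/-!
# Flasque pro-étale sheaves along quasi-compact opens of affine ind-étale objects
-/

set_option autoImplicit false
set_option linter.all false
set_option backward.isDefEq.respectTransparency.types false
set_option backward.isDefEq.respectTransparency false
set_option synthInstance.maxHeartbeats 400000
set_option maxHeartbeats 1000000

universe u

open CategoryTheory Limits AlgebraicGeometry Opposite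
open Groth.Agent.SiteCoh Groth.Agent.ProEtWC.EpsUnit

namespace Groth.Agent.EtCmp

variable {X : Scheme.{u}}

section BaseChange

variable {I : Type u} [SmallCategory I] (D : I ⥤ X.ProEt) {j : I} {Q : X.ProEt} (q : Q ⟶ D.obj j)

/-- The base change of a diagram along a map to one of its objects. -/
noncomputable def bcD : Over j ⥤ X.ProEt := Over.post D ⋙ Over.pullback q ⋙ Over.forget Q

/-- The projection to the original diagram. -/
noncomputable def bcFst : bcD D q ⟶ Over.forget j ⋙ D where
  app k := pullback.fst (D.map k.hom) q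
  naturality k l ψ := pullback.lift_fst _ _ _

theorem isPullback_bcFst (k : Over j) :
    IsPullback (pullback.snd (D.map k.hom) q).left ((bcFst D q).app k).left q.left (D.map k.hom).left :=
  (IsPullback.of_hasPullback (D.map k.hom) q).flip.map (Scheme.ProEt.forget X ⋙ CategoryTheory.Over.forget X)

variable (c : Cone D) {V : X.ProEt} (a : V ⟶ c.pt) (b : V ⟶ Q)
  (sq : IsPullback b.left a.left q.left (c.π.app j).left) (hb : b ≫ q = a ≫ c.π.app j)

/-- The base change of a cone. -/
noncomputable def bcCone : Cone (bcD D q) where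
  pt := V
  π :=
    { app := fun k => pullback.lift (a ≫ c.π.app k.left) b
        (((Category.assoc _ _ _).trans (congrArg (fun m => a ≫ m) (c.w k.hom))).trans hb.symm)
      naturality := fun k l ψ => by
        refine (Category.id_comp _).trans ?_
        symm
        apply pullback.hom_ext
        · refine (Category.assoc _ _ _).trans ?_
          have e1 : (bcD D q).map ψ ≫ pullback.fst (D.map l.hom) q = pullback.fst (D.map k.hom) q ≫ D.map ψ.left :=
            pullback.lift_fst _ _ _
          refine ((congrArg (fun m => _ ≫ m) e1).trans ?_).trans (pullback.lift_fst _ _ _).symm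
          exact (Category.assoc _ _ _).symm.trans ((congrArg (fun m => m ≫ D.map ψ.left) (pullback.lift_fst _ _ _)).trans
            ((Category.assoc _ _ _).trans (congrArg (fun m => a ≫ m) (c.w ψ.left))))
        · refine (Category.assoc _ _ _).trans ?_
          have e1 : (bcD D q).map ψ ≫ pullback.snd (D.map l.hom) q = pullback.snd (D.map k.hom) q :=
            pullback.lift_snd _ _ _
          exact ((congrArg (fun m => _ ≫ m) e1).trans (pullback.lift_snd _ _ _)).trans
            (pullback.lift_snd _ _ _).symm }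

include sq in
theorem nonempty_isLimit_bcCone [IsCofiltered I]
    (hc : IsLimit ((Scheme.ProEt.forget X ⋙ CategoryTheory.Over.forget X).mapCone c)) :
    Nonempty (IsLimit ((Scheme.ProEt.forget X ⋙ CategoryTheory.Over.forget X).mapCone (bcCone D q c a b hb))) := by
  let Φ := Scheme.ProEt.forget X ⋙ CategoryTheory.Over.forget X
  let c₁ : Cone (Over.forget j ⋙ D) := c.whisker (Over.forget j)
  have hc₁ : IsLimit (Φ.mapCone c₁) :=
    (Functor.Initial.isLimitWhiskerEquiv (Over.forget j) (Φ.mapCone c)).symm hc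
  have hf : ∀ k : Over j, IsPullback (Φ.map ((bcCone D q c a b hb).π.app k)) (Φ.map a)
      (Φ.map ((bcFst D q).app k)) (Φ.map (c₁.π.app k)) := by
    intro k
    refine IsPullback.of_right ?_ ?_ (isPullback_bcFst D q k)
    · have h1 : Φ.map ((bcCone D q c a b hb).π.app k) ≫ Φ.map (pullback.snd (D.map k.hom) q) = Φ.map b :=
        (Φ.map_comp _ _).symm.trans (congrArg Φ.map (pullback.lift_snd _ _ _))
      have h2 : Φ.map (c₁.π.app k) ≫ Φ.map (D.map k.hom) = Φ.map (c.π.app j) :=
        (Φ.map_comp _ _).symm.trans (congrArg Φ.map (c.w k.hom))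
      show IsPullback (Φ.map _ ≫ Φ.map (pullback.snd (D.map k.hom) q)) (Φ.map a) q.left
        (Φ.map (c₁.π.app k) ≫ Φ.map (D.map k.hom))
      rw [h1, h2]
      exact sq
    · exact ((Φ.map_comp _ _).symm.trans (congrArg Φ.map (pullback.lift_fst _ _ _))).trans (Φ.map_comp _ _)
  haveI : IsConnected (Over j) := IsCofiltered.isConnected _
  exact ⟨isLimitOfIsPullbackOfIsConnected (Functor.whiskerRight (bcFst D q) Φ)
    (Φ.mapCone (bcCone D q c a b hb)) (Φ.mapCone c₁)
    { hom := Φ.map a
      w := fun k => (hf k).w.symm } hf hc₁⟩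

include q in
theorem isAffineHom_bcD_map (hD : ∀ {i l : I} (φ : i ⟶ l), IsAffineHom (D.map φ).left) {k l : Over j}
    (ψ : k ⟶ l) : IsAffineHom ((bcD D q).map ψ).left := by
  let Φ := Scheme.ProEt.forget X ⋙ CategoryTheory.Over.forget X
  have e1 : ((bcD D q).map ψ).left ≫ (pullback.snd (D.map l.hom) q).left = (pullback.snd (D.map k.hom) q).left :=
    congrArg (fun m => Φ.map m) (pullback.lift_snd _ _ _) |> (Φ.map_comp _ _).symm.trans
  have e2 : ((bcD D q).map ψ).left ≫ ((bcFst D q).app l).left = ((bcFst D q).app k).left ≫ (D.map ψ.left).left :=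
    (Φ.map_comp _ _).symm.trans ((congrArg (fun m => Φ.map m) (pullback.lift_fst _ _ _)).trans (Φ.map_comp _ _))
  have e3 : (D.map k.hom).left = (D.map ψ.left).left ≫ (D.map l.hom).left := by
    have h : D.map k.hom = D.map ψ.left ≫ D.map l.hom := by rw [← D.map_comp, Over.w ψ]
    exact (congrArg (fun m => Φ.map m) h).trans (Φ.map_comp _ _)
  have hk := (isPullback_bcFst D q k).flip
  rw [e3, ← e1] at hk
  exact MorphismProperty.of_isPullback (P := @IsAffineHom)
    (IsPullback.of_bot hk e2.symm (isPullback_bcFst D q l).flip) (hD ψ.left)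

end BaseChange

/-- The open subobject. -/
noncomputable abbrev openP (P : X.ProEt) (O : P.left.Opens) : X.ProEt :=
  haveI : WeaklyEtale P.hom := P.prop
  Scheme.ProEt.mk (O.ι ≫ P.hom)

/-- The inclusion of an open subobject. -/
noncomputable abbrev inclP (P : X.ProEt) (O : P.left.Opens) : openP P O ⟶ P :=
  MorphismProperty.Over.homMk O.ι rfl trivial

/-- The inclusion of open subobjects. -/
noncomputable abbrev leP (P : X.ProEt) {O O' : P.left.Opens} (h : O ≤ O') : openP P O ⟶ openP P O' :=
  MorphismProperty.Over.homMk (P.left.homOfLE h) (by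
    show P.left.homOfLE h ≫ O'.ι ≫ P.hom = O.ι ≫ P.hom
    rw [Scheme.homOfLE_ι_assoc]) trivial

theorem leP_incl (P : X.ProEt) {O O' : P.left.Opens} (h : O ≤ O') : leP P h ≫ inclP P O' = inclP P O :=
  (Scheme.ProEt.forget X ⋙ CategoryTheory.Over.forget X).map_injective (P.left.homOfLE_ι h)

theorem mem_topology_opens (P : X.ProEt) {ι : Type (u + 1)} (O : ι → P.left.Opens)
    (h : ∀ x : P.left, ∃ i, x ∈ O i) :
    Sieve.ofArrows (fun i => openP P (O i)) (fun i => inclP P (O i)) ∈ Scheme.ProEt.topology X P := by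
  refine Precoverage.generate_mem_toGrothendieck ?_
  rw [Scheme.ProEt.precoverage, Precoverage.mem_comap_iff, Presieve.map_ofArrows]
  refine Scheme.zariskiPrecoverage_le_propQCPrecoverage _ ?_
  let E : PreZeroHypercover.{u + 1} P.left := ⟨ι, fun i => (O i).toScheme, fun i => (O i).ι⟩
  exact (Scheme.presieve₀_mem_precoverage_iff E).2
    ⟨fun x => by obtain ⟨i, hi⟩ := h x; exact ⟨i, ⟨x, hi⟩, rfl⟩,
      fun i => inferInstanceAs (IsOpenImmersion (O i).ι)⟩

/-- Sections extend from quasi-compact opens of affine ind-étale objects. -/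
def Flab (K : ProEtS.AbP X) : Prop :=
  ∀ ⦃A O : X.ProEt⦄ (j : O ⟶ A), InB A → IsOpenImmersion j.left → CompactSpace O.left →
    Function.Surjective (K.obj.map j.op)

/-- The class of sheaves used for dimension shifting of direct images. -/
def GoodP (K : ProEtS.AbP X) : Prop := CechAcyclic K ∧ Flab K

theorem Flab.of_iso {K K' : ProEtS.AbP X} (e : K ≅ K') (h : Flab K) : Flab K' := by
  intro A O j hA hj hO y
  obtain ⟨x, hx⟩ := h j hA hj hO (e.inv.hom.app (op O) y)
  refine ⟨e.hom.hom.app (op A) x, ?_⟩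
  rw [← NatTrans.naturality_apply, hx]
  exact ConcreteCategory.congr_hom (congrArg (fun m => m.hom.app (op O)) e.inv_hom_id) y

theorem flab_G (J : EtCoh.Ab X) [Injective J] [ProEtS.EpsCont X] : Flab (G J) := by
  intro A O j hA hj hO s
  obtain ⟨hAa, U, g, hU, hg⟩ := hA
  haveI := hAa
  haveI : IsAffine ((ProEtS.eps X).obj U).left := hU
  obtain ⟨P⟩ := nonempty_pres g hg
  haveI : Etale ((ProEtS.eps X).obj U).hom := U.prop
  let Φ := Scheme.ProEt.forget X ⋙ CategoryTheory.Over.forget X
  have hPX : ∀ i, Etale (P.D.obj i).hom := fun i => by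
    haveI := P.etale i
    have e : (P.q.app i).left ≫ ((ProEtS.eps X).obj U).hom = (P.D.obj i).hom :=
      CategoryTheory.Over.w (P.q.app i).hom
    rw [← e]
    infer_instance
  let cW : Cone P.D := Cone.mk A P.π
  haveI : ∀ k, IsAffine ((P.D ⋙ Φ).obj k) := P.affine
  haveI : ∀ k, CompactSpace ↥((P.D ⋙ Φ).obj k) := fun k => inferInstance
  haveI : ∀ {k l : P.I} (φ : k ⟶ l), IsAffineHom ((P.D ⋙ Φ).map φ) := fun φ => inferInstance
  haveI := hj
  haveI : CompactSpace O.left := hO
  have hc : IsCompact ((j.left.opensRange : A.left.Opens) : Set A.left) := by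
    rw [Scheme.Hom.coe_opensRange]
    exact isCompact_range j.left.continuous
  obtain ⟨i, V, hV, hVO⟩ := exists_preimage_eq (P.D ⋙ Φ) (Φ.mapCone cW) P.isLimit j.left.opensRange hc
  let q : openP (P.D.obj i) V ⟶ P.D.obj i := inclP (P.D.obj i) V
  have hr : Set.range (j.left ≫ (P.π.app i).left) ⊆ Set.range V.ι := by
    rintro _ ⟨x, rfl⟩
    rw [Scheme.Opens.range_ι]
    have : j.left x ∈ (P.π.app i).left ⁻¹ᵁ V := hVO.ge ⟨x, rfl⟩
    exact this
  let b₀ : O.left ⟶ V.toScheme := IsOpenImmersion.lift V.ι (j.left ≫ (P.π.app i).left) hr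
  have hb₀ : b₀ ≫ V.ι = j.left ≫ (P.π.app i).left := IsOpenImmersion.lift_fac _ _ _
  let b : O ⟶ openP (P.D.obj i) V := MorphismProperty.Over.homMk b₀ (by
    show b₀ ≫ V.ι ≫ (P.D.obj i).hom = O.hom
    rw [reassoc_of% hb₀]
    exact (congrArg (fun m => j.left ≫ m) (CategoryTheory.Over.w (P.π.app i).hom)).trans
      (CategoryTheory.Over.w j.hom)) trivial
  have hb : b ≫ q = j ≫ P.π.app i := Φ.map_injective hb₀
  have sq : IsPullback b.left j.left q.left (P.π.app i).left := by
    refine IsOpenImmersion.isPullback b₀ j.left V.ι (P.π.app i).left hb₀.symm ?_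
    show (P.π.app i).left ⁻¹ᵁ V.ι.opensRange = j.left.opensRange
    rw [Scheme.Opens.opensRange_ι]
    exact hVO
  obtain ⟨hl⟩ := nonempty_isLimit_bcCone P.D q cW j b sq hb P.isLimit
  haveI : CompactSpace V.toScheme := isCompact_iff_compactSpace.mp hV
  haveI hoi : ∀ k : Over i, IsOpenImmersion ((bcFst P.D q).app k).left := fun k =>
    MorphismProperty.of_isPullback (P := @IsOpenImmersion) (isPullback_bcFst P.D q k) (inferInstanceAs (IsOpenImmersion V.ι))
  haveI : ∀ k l : Over i, ∀ ψ : k ⟶ l, IsAffineHom ((bcD P.D q).map ψ).left := fun k l ψ =>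
    isAffineHom_bcD_map P.D q (fun {i l} φ => inferInstanceAs (IsAffineHom ((P.D ⋙ Φ).map φ))) ψ
  haveI : ∀ k : Over i, CompactSpace ↥((bcD P.D q).obj k).left := fun k => by
    haveI : IsAffine (P.D.obj k.left).left := P.affine _
    haveI : IsAffine (P.D.obj i).left := P.affine _
    haveI hqc : QuasiCompact (P.D.map k.hom).left := @instQuasiCompactOfIsAffineHom _ _ _ (inferInstanceAs (IsAffineHom ((P.D ⋙ Φ).map k.hom)))
    haveI : QuasiCompact (pullback.snd (P.D.map k.hom) q).left :=
      MorphismProperty.of_isPullback (P := @QuasiCompact) (isPullback_bcFst P.D q k).flip hqc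
    haveI : CompactSpace (openP (P.D.obj i) V).left := isCompact_iff_compactSpace.mp hV
    exact QuasiCompact.compactSpace_of_compactSpace (pullback.snd (P.D.map k.hom) q).left
  haveI : ∀ k : Over i, QuasiSeparatedSpace ↥((bcD P.D q).obj k).left := fun k => by
    haveI : IsAffine ((Over.forget i ⋙ P.D).obj k).left := P.affine _
    exact QuasiSeparatedSpace.of_isOpenEmbedding ((bcFst P.D q).app k).left.isOpenEmbedding
  obtain ⟨k, t, ht⟩ := exists_stage_section J (bcCone P.D q cW j b hb) hl s
  haveI : Etale (P.D.obj k.left).hom := hPX _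
  have hek : Etale ((bcD P.D q).obj k).hom := by
    have e : ((bcFst P.D q).app k).left ≫ (P.D.obj k.left).hom = ((bcD P.D q).obj k).hom :=
      CategoryTheory.Over.w ((bcFst P.D q).app k).hom
    rw [← e]
    infer_instance
  let E₁ : X.Etale := Scheme.Etale.mk (P.D.obj k.left).hom
  let E₂ : X.Etale := Scheme.Etale.mk ((bcD P.D q).obj k).hom
  let m : E₂ ⟶ E₁ := MorphismProperty.Over.homMk ((bcFst P.D q).app k).left
    (CategoryTheory.Over.w ((bcFst P.D q).app k).hom) trivial
  haveI : Mono ((Scheme.Etale.forget X ⋙ CategoryTheory.Over.forget X).map m) :=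
    inferInstanceAs (Mono ((bcFst P.D q).app k).left)
  haveI : Mono m := (Scheme.Etale.forget X ⋙ CategoryTheory.Over.forget X).mono_of_mono_map ‹_›
  haveI := isIso_thetaNat J
  have hth : ∀ E : X.Etale, Function.Bijective ((thetaNat J).app (op E)) := fun E =>
    ConcreteCategory.bijective_of_isIso _
  obtain ⟨t₀, ht₀⟩ := (hth E₂).2 t
  obtain ⟨y, hy⟩ := EtGal.surjective_map_of_injective J m t₀
  refine ⟨(G J).obj.map (P.π.app k.left).op ((thetaNat J).app (op E₁) y), ?_⟩
  rw [← ht, ← ht₀, ← hy, NatTrans.naturality_apply]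
  let z : (G J).obj.obj (op (P.D.obj k.left)) := (thetaNat J).app (op E₁) y
  show (G J).obj.map j.op ((G J).obj.map (P.π.app k.left).op z) =
    (G J).obj.map ((bcCone P.D q cW j b hb).π.app k).op ((G J).obj.map ((bcFst P.D q).app k).op z)
  refine ((Functor.map_comp_apply (G J).obj (P.π.app k.left).op j.op z).symm.trans ?_).trans
    (Functor.map_comp_apply (G J).obj ((bcFst P.D q).app k).op ((bcCone P.D q cW j b hb).π.app k).op z)
  exact congrArg (fun f => (G J).obj.map f z) (congrArg Quiver.Hom.op (pullback.lift_fst _ _ _).symm)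

theorem goodP_pull (J : EtCoh.Ab X) [Injective J] [ProEtS.EpsCont X] : GoodP ((ProEtS.epsPull X).obj J) :=
  ⟨(cechAcyclic_G J).of_iso (pullIso X J).symm, (flab_G J).of_iso (pullIso X J).symm⟩

variable {S : ShortComplex (ProEtS.AbP X)}

/-- Lifting of sections over a union of affine ind-étale opens. -/
theorem exists_lift_union (hS : S.ShortExact) (h₁ : GoodP S.X₁) (P : X.ProEt) [QuasiSeparatedSpace P.left] :
    ∀ {n : ℕ} (O : Fin n → P.left.Opens), (∀ k, InB (openP P (O k))) →
      ∀ x : S.X₃.obj.obj (op (openP P (⨆ k, O k))), ∃ y, S.g.hom.app (op (openP P (⨆ k, O k))) y = x := by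
  intro n
  induction n with
  | zero =>
    intro O _ x
    refine ⟨0, EtCechLib.ext_of_cover S.X₃ (fun e : PEmpty.{u + 2} => inclP _ (e.elim))
      (mem_topology_opens (openP P (⨆ k, O k)) (fun e : PEmpty.{u + 2} => (e.elim)) fun z => ?_) fun e => e.elim⟩
    obtain ⟨k, -⟩ := TopologicalSpace.Opens.mem_iSup.1 z.2
    exact k.elim0
  | succ n ih =>
    intro O hO x
    let A : P.left.Opens := O 0
    let B : P.left.Opens := ⨆ k : Fin n, O k.succ
    let U : P.left.Opens := ⨆ k, O k
    have hAU : A ≤ U := le_iSup O 0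
    have hBU : B ≤ U := iSup_le fun k => le_iSup O k.succ
    obtain ⟨yA, hyA⟩ := surjective_sections hS h₁.1 (hO 0) (S.X₃.obj.map (leP P hAU).op x)
    obtain ⟨yB, hyB⟩ := ih (fun k => O k.succ) (fun k => hO k.succ) (S.X₃.obj.map (leP P hBU).op x)
    have hC : ∀ {Z Z' : X.ProEt} (r : Z' ⟶ Z) (y : S.X₂.obj.obj (op Z)),
        S.g.hom.app (op Z') (S.X₂.obj.map r.op y) = S.X₃.obj.map r.op (S.g.hom.app (op Z) y) :=
      fun r y => NatTrans.naturality_apply S.g.hom r.op y
    let r₁ := leP P (inf_le_left : A ⊓ B ≤ A)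
    let r₂ := leP P (inf_le_right : A ⊓ B ≤ B)
    have hrr : r₁ ≫ leP P hAU = r₂ ≫ leP P hBU :=
      (Scheme.ProEt.forget X ⋙ CategoryTheory.Over.forget X).map_injective (by
        show P.left.homOfLE (inf_le_left : A ⊓ B ≤ A) ≫ P.left.homOfLE hAU =
          P.left.homOfLE (inf_le_right : A ⊓ B ≤ B) ≫ P.left.homOfLE hBU
        rw [Scheme.homOfLE_homOfLE, Scheme.homOfLE_homOfLE])
    have hd : S.g.hom.app (op (openP P (A ⊓ B))) (S.X₂.obj.map r₁.op yA - S.X₂.obj.map r₂.op yB) = 0 := by
      rw [map_sub, hC, hC, hyA, hyB, ← Functor.map_comp_apply, ← Functor.map_comp_apply, ← op_comp, ← op_comp,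
        hrr, sub_self]
    obtain ⟨d, hd'⟩ := EtCechLib.sections_exact hS _ _ hd
    haveI : CompactSpace (openP P (A ⊓ B)).left := isCompact_iff_compactSpace.mp
      (IsCompact.inter_of_isOpen
        (isCompact_iff_compactSpace.mpr (by haveI : IsAffine A.toScheme := (hO 0).isAffine; infer_instance : CompactSpace A.toScheme))
        (by
          rw [TopologicalSpace.Opens.coe_iSup]
          exact isCompact_iUnion fun k => isCompact_iff_compactSpace.mpr
            (by haveI : IsAffine (O k.succ).toScheme := (hO k.succ).isAffine; infer_instance : CompactSpace (O k.succ).toScheme))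
        A.isOpen B.isOpen)
    obtain ⟨e, he⟩ := h₁.2 r₁ (hO 0) (inferInstanceAs (IsOpenImmersion (P.left.homOfLE (inf_le_left : A ⊓ B ≤ A)))) this d
    let yA' := yA - S.f.hom.app (op (openP P A)) e
    have hA' : S.g.hom.app (op (openP P A)) yA' = S.X₃.obj.map (leP P hAU).op x := by
      rw [map_sub, EtCechLib.sections_comp_eq_zero, sub_zero, hyA]
    have hAB : S.X₂.obj.map r₁.op yA' = S.X₂.obj.map r₂.op yB := by
      rw [map_sub, ← NatTrans.naturality_apply S.f.hom r₁.op e, he, hd', sub_sub_cancel]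
    -- glue
    let T : ULift.{u + 1} Bool → (openP P U).left.Opens := fun b => U.ι ⁻¹ᵁ (if b.down then A else B)
    have hcov : ∀ z : (openP P U).left, ∃ b, z ∈ T b := fun z => by
      obtain ⟨k, hk⟩ := TopologicalSpace.Opens.mem_iSup.1 z.2
      cases k using Fin.cases with
      | zero => exact ⟨⟨true⟩, hk⟩
      | succ k => exact ⟨⟨false⟩, TopologicalSpace.Opens.mem_iSup.2 ⟨k, hk⟩⟩
    let Φ := Scheme.ProEt.forget X ⋙ CategoryTheory.Over.forget X
    have hTr : ∀ (W : P.left.Opens) (V : (openP P U).left.Opens), V = U.ι ⁻¹ᵁ W →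
        Set.range (V.ι ≫ U.ι) ⊆ Set.range W.ι := by
      rintro W V rfl _ ⟨z, rfl⟩
      rw [Scheme.Opens.range_ι]
      exact z.2
    let toW : ∀ (W : P.left.Opens) (V : (openP P U).left.Opens), V = U.ι ⁻¹ᵁ W →
        (openP (openP P U) V ⟶ openP P W) := fun W V h =>
      MorphismProperty.Over.homMk (IsOpenImmersion.lift W.ι (V.ι ≫ U.ι) (hTr W V h)) (by
        show IsOpenImmersion.lift W.ι _ _ ≫ W.ι ≫ P.hom = V.ι ≫ U.ι ≫ P.hom
        rw [IsOpenImmersion.lift_fac_assoc, Category.assoc]) trivial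
    have htoW : ∀ (W : P.left.Opens) (V : (openP P U).left.Opens) (h : V = U.ι ⁻¹ᵁ W) (hW : W ≤ U),
        toW W V h ≫ leP P hW = inclP (openP P U) V := fun W V h hW => Φ.map_injective (by
      show IsOpenImmersion.lift W.ι _ _ ≫ P.left.homOfLE hW = V.ι
      rw [← cancel_mono U.ι, Category.assoc, Scheme.homOfLE_ι, IsOpenImmersion.lift_fac])
    let t : ∀ b, S.X₂.obj.obj (op (openP (openP P U) (T b))) := fun b =>
      match b with
      | ⟨true⟩ => S.X₂.obj.map (toW A (T ⟨true⟩) rfl).op yA'
      | ⟨false⟩ => S.X₂.obj.map (toW B (T ⟨false⟩) rfl).op yB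
    have hover : ∀ (Z : X.ProEt) (gA : Z ⟶ openP P A) (gB : Z ⟶ openP P B),
        gA ≫ leP P hAU = gB ≫ leP P hBU → S.X₂.obj.map gA.op yA' = S.X₂.obj.map gB.op yB := by
      intro Z gA gB h
      have hw : gA.left ≫ A.ι = gB.left ≫ B.ι := by
        have := congrArg (fun m => Φ.map m ≫ U.ι) h
        simp only [Functor.map_comp, Category.assoc] at this
        rwa [show Φ.map (leP P hAU) ≫ U.ι = A.ι from P.left.homOfLE_ι hAU,
          show Φ.map (leP P hBU) ≫ U.ι = B.ι from P.left.homOfLE_ι hBU] at this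
      have hr : Set.range (gA.left ≫ A.ι) ⊆ Set.range (A ⊓ B).ι := by
        rintro _ ⟨z, rfl⟩
        rw [Scheme.Opens.range_ι]
        refine ⟨(gA.left z).2, ?_⟩
        rw [hw]
        exact (gB.left z).2
      let l : Z ⟶ openP P (A ⊓ B) := MorphismProperty.Over.homMk (IsOpenImmersion.lift (A ⊓ B).ι _ hr) (by
        show IsOpenImmersion.lift (A ⊓ B).ι _ _ ≫ (A ⊓ B).ι ≫ P.hom = Z.hom
        rw [IsOpenImmersion.lift_fac_assoc, Category.assoc]
        exact CategoryTheory.Over.w gA.hom) trivial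
      have hl₁ : l ≫ r₁ = gA := Φ.map_injective (by
        show IsOpenImmersion.lift (A ⊓ B).ι _ hr ≫ P.left.homOfLE (inf_le_left : A ⊓ B ≤ A) = gA.left
        rw [← cancel_mono A.ι, Category.assoc, Scheme.homOfLE_ι, IsOpenImmersion.lift_fac])
      have hl₂ : l ≫ r₂ = gB := Φ.map_injective (by
        show IsOpenImmersion.lift (A ⊓ B).ι _ hr ≫ P.left.homOfLE (inf_le_right : A ⊓ B ≤ B) = gB.left
        rw [← cancel_mono B.ι, Category.assoc, Scheme.homOfLE_ι, IsOpenImmersion.lift_fac, hw])
      rw [← hl₁, ← hl₂, op_comp, op_comp, Functor.map_comp_apply, Functor.map_comp_apply, hAB]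
    haveI hmono : ∀ b, Mono (inclP (openP P U) (T b)) := fun b => Φ.mono_of_mono_map (inferInstanceAs (Mono (T b).ι))
    obtain ⟨y, hy, -⟩ := EtCechLib.existsUnique_amalgamation S.X₂ _ (mem_topology_opens (openP P U) T hcov) t
      (fun i k Z gi gk h => by
        obtain ⟨_ | _⟩ := i <;> obtain ⟨_ | _⟩ := k <;>
          simp only [t] <;> rw [← Functor.map_comp_apply, ← Functor.map_comp_apply, ← op_comp, ← op_comp]
        · rw [(cancel_mono (inclP (openP P U) _)).1 h]
        · refine (hover Z _ _ ?_).symm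
          rw [Category.assoc, htoW A (T ⟨true⟩) rfl hAU, Category.assoc, htoW B (T ⟨false⟩) rfl hBU]
          exact h.symm
        · refine hover Z _ _ ?_
          rw [Category.assoc, htoW A (T ⟨true⟩) rfl hAU, Category.assoc, htoW B (T ⟨false⟩) rfl hBU]
          exact h
        · rw [(cancel_mono (inclP (openP P U) _)).1 h])
    refine ⟨y, EtCechLib.ext_of_cover S.X₃ _ (mem_topology_opens (openP P U) T hcov) fun b => ?_⟩
    rw [← hC, hy b]
    obtain ⟨_ | _⟩ := b <;> simp only [t]
    · rw [hC, hyB, ← Functor.map_comp_apply, ← op_comp, htoW B (T ⟨false⟩) rfl hBU]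
    · rw [hC, hA', ← Functor.map_comp_apply, ← op_comp, htoW A (T ⟨true⟩) rfl hAU]

/-- Sections over objects covered by finitely many affine ind-étale opens lift. -/
theorem surjective_sections_of_cover (hS : S.ShortExact) (h₁ : GoodP S.X₁) (P : X.ProEt)
    [QuasiSeparatedSpace P.left] {n : ℕ} (O : Fin n → P.left.Opens) (hO : ∀ k, InB (openP P (O k)))
    (hcov : ⨆ k, O k = ⊤) : Function.Surjective (S.g.hom.app (op P)) := by
  intro x
  let U : P.left.Opens := ⨆ k, O k
  obtain ⟨y, hy⟩ := exists_lift_union hS h₁ P O hO (S.X₃.obj.map (inclP P U).op x)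
  haveI : IsIso (inclP P U).left := by
    show IsIso U.ι
    rw [show U = ⊤ from hcov, ← Scheme.topIso_hom]
    infer_instance
  haveI : IsIso ((Scheme.ProEt.forget X ⋙ CategoryTheory.Over.forget X).map (inclP P U)) := ‹_›
  haveI : IsIso (inclP P U) := isIso_of_reflects_iso _ (Scheme.ProEt.forget X ⋙ CategoryTheory.Over.forget X)
  refine ⟨S.X₂.obj.map (inv (inclP P U)).op y, ?_⟩
  rw [NatTrans.naturality_apply, hy, ← Functor.map_comp_apply, ← op_comp, IsIso.inv_hom_id, op_id]
  exact congrArg (fun m => m x) (S.X₃.obj.map_id (op P))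

theorem InB.of_isOpenImmersion {W V : X.ProEt} (hW : InB W) [IsAffine V.left] (a : V ⟶ W)
    [IsOpenImmersion a.left] : InB V := by
  haveI := hW.isAffine
  exact hW.of_indEt a (indEt_of_etale a.left)

theorem flab_X₃ (hS : S.ShortExact) (h₁ : GoodP S.X₁) (h₂ : Flab S.X₂) : Flab S.X₃ := by
  intro A O j hA hj hO x
  haveI := hA.isAffine
  haveI := hj
  haveI : CompactSpace O.left := hO
  haveI : QuasiSeparatedSpace O.left := QuasiSeparatedSpace.of_isOpenEmbedding j.left.isOpenEmbedding
  obtain ⟨s, hs, hsf, hsU⟩ := (Scheme.isBasis_affineOpens O.left).exists_finite_of_isCompact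
    (U := ⊤) (by simpa using isCompact_univ)
  haveI : Finite s := hsf
  let O' : Fin (Nat.card s) → O.left.Opens := fun k => ((Finite.equivFin s).symm k).1
  have hO' : ∀ k, InB (openP O (O' k)) := fun k => by
    haveI : IsAffine (openP O (O' k)).left := hs ((Finite.equivFin s).symm k).2
    haveI : IsOpenImmersion (inclP O (O' k) ≫ j).left := inferInstanceAs (IsOpenImmersion ((O' k).ι ≫ j.left))
    exact hA.of_isOpenImmersion (inclP O (O' k) ≫ j)
  have hcov : ⨆ k, O' k = ⊤ := by
    rw [hsU, sSup_eq_iSup']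
    exact (Finite.equivFin s).symm.surjective.iSup_comp fun i : s => i.1
  obtain ⟨y, hy⟩ := surjective_sections_of_cover hS h₁ O O' hO' hcov x
  obtain ⟨z, hz⟩ := h₂ j hA hj hO y
  exact ⟨S.g.hom.app (op A) z, by rw [← NatTrans.naturality_apply, hz, hy]⟩

theorem flab_of_injective (K : ProEtS.AbP X) [Injective K] [ProEtS.EpsCont X] : Flab K := by
  intro A O j _ hj _
  haveI := hj
  haveI : Mono ((Scheme.ProEt.forget X ⋙ CategoryTheory.Over.forget X).map j) :=
    inferInstanceAs (Mono j.left)
  haveI : Mono j := (Scheme.ProEt.forget X ⋙ CategoryTheory.Over.forget X).mono_of_mono_map ‹_›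
  haveI := EtCechLib.injective_obj K
  let fr := (Functor.whiskeringRight X.ProEtᵒᵖ (Type (u + 1)) AddCommGrpCat.{u + 1}).obj AddCommGrpCat.free.{u + 1}
  let adj := AddCommGrpCat.adj.{u + 1}.whiskerRight X.ProEtᵒᵖ
  haveI : Mono (fr.map (uliftYoneda.{u + 1}.map j)) := by
    haveI : Mono (uliftYoneda.{u + 1}.map j) := inferInstance
    rw [NatTrans.mono_iff_mono_app]
    intro W
    exact inferInstanceAs (Mono (AddCommGrpCat.free.map ((uliftYoneda.{u + 1}.map j).app W)))
  intro x
  let x' := (adj.homEquiv _ K.obj).symm (uliftYonedaEquiv.{u + 1}.symm x)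
  let y' := Injective.factorThru x' (fr.map (uliftYoneda.{u + 1}.map j))
  have hy : fr.map (uliftYoneda.{u + 1}.map j) ≫ y' = x' := Injective.comp_factorThru _ _
  refine ⟨uliftYonedaEquiv.{u + 1} (adj.homEquiv _ K.obj y'), ?_⟩
  have h2 := congrArg (adj.homEquiv _ K.obj) hy
  rw [adj.homEquiv_naturality_left, Equiv.apply_symm_apply] at h2
  refine (uliftYonedaEquiv_naturality (adj.homEquiv _ K.obj y') j.op).trans ?_
  exact (congrArg uliftYonedaEquiv h2).trans (Equiv.apply_symm_apply _ _)

theorem goodP_X₃ [ProEtS.EpsCont X] (hS : S.ShortExact) (h₁ : GoodP S.X₁) [Injective S.X₂] : GoodP S.X₃ :=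
  ⟨cechAcyclic_X₃ hS h₁.1 (cechAcyclic_of_injective S.X₂), flab_X₃ hS h₁ (flab_of_injective S.X₂)⟩

end Groth.Agent.EtCmp
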