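import Groth.Agent.EtCmp.CechLimit
import Groth.Agent.HenselLib.IndEtale
import Mathlib.AlgebraicGeometry.Morphisms.Etale

/-!
# Affine pro-étale objects which are ind-étale over affine étale objects
-/

set_option autoImplicit false
set_option linter.all false
set_option backward.isDefEq.respectTransparency.types false
set_option backward.isDefEq.respectTransparency false
set_option synthInstance.maxHeartbeats 400000
set_option maxHeartbeats 1000000

universe u

open CategoryTheory Limits AlgebraicGeometry Opposite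
open Groth.Agent.HenselLib.IndEt (etaleMP)

namespace Groth.Agent.EtCmp

/-- A morphism inducing an ind-étale map on global sections. -/
def IndEt {A B : Scheme.{u}} (f : A ⟶ B) : Prop := MorphismProperty.ind.{u} etaleMP.{u} f.appTop

theorem indEt_of_etale {A B : Scheme.{u}} (f : A ⟶ B) [Etale f] [IsAffine A] [IsAffine B] : IndEt f :=
  MorphismProperty.le_ind etaleMP _ ((HasRingHomProperty.iff_of_isAffine (P := @Etale)).1 inferInstance)

theorem indEt_id (A : Scheme.{u}) [IsAffine A] : IndEt (𝟙 A) := indEt_of_etale _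

theorem IndEt.comp {A B C : Scheme.{u}} {f : A ⟶ B} {g : B ⟶ C} (hf : IndEt f) (hg : IndEt g) :
    IndEt (f ≫ g) := by
  haveI : (MorphismProperty.ind.{u} etaleMP.{u}).IsStableUnderComposition :=
    MorphismProperty.IsStableUnderComposition.ind_of_preIndSpreads HenselLib.IndEt.etaleMP_le_fp
  rw [IndEt, Scheme.Hom.comp_appTop]
  exact MorphismProperty.comp_mem _ _ _ hg hf

theorem IndEt.of_isPullback {P A B C : Scheme.{u}} {fst : P ⟶ A} {snd : P ⟶ B} {f : A ⟶ C} {g : B ⟶ C}
    [IsAffine A] [IsAffine B] [IsAffine C] (h : IsPullback fst snd f g) (hg : IndEt g) : IndEt fst :=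
  MorphismProperty.of_isPushout (P := MorphismProperty.ind.{u} etaleMP.{u})
    (isPushout_appTop_of_isPullback h) hg

variable {X : Scheme.{u}}

/-- The affine objects which are ind-étale over an affine étale object. -/
def InB (W : X.ProEt) : Prop :=
  IsAffine W.left ∧
    ∃ (U : X.Etale) (g : W ⟶ (ProEtS.eps X).obj U), IsAffine U.left ∧ IndEt g.left

theorem InB.isAffine {W : X.ProEt} (h : InB W) : IsAffine W.left := h.1

theorem inB_eps (U : X.Etale) [hU : IsAffine U.left] : InB ((ProEtS.eps X).obj U) :=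
  ⟨hU, U, 𝟙 _, hU, indEt_id U.left⟩

theorem InB.of_indEt {W V : X.ProEt} (hW : InB W) [IsAffine V.left] (a : V ⟶ W) (ha : IndEt a.left) :
    InB V := by
  obtain ⟨-, U, g, hU, hg⟩ := hW
  exact ⟨inferInstance, U, a ≫ g, hU, ha.comp hg⟩

section Pres

variable {W P : X.ProEt} [IsAffine W.left] [IsAffine P.left] (g : W ⟶ P)

/-- A presentation of an ind-étale morphism as a cofiltered limit of affine étale ones. -/
structure Pres where
  I : Type u
  [cat : SmallCategory I]
  [cofiltered : IsCofiltered I]
  D : I ⥤ X.ProEt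
  q : D ⟶ (Functor.const I).obj P
  affine : ∀ i, IsAffine (D.obj i).left
  etale : ∀ i, Etale (q.app i).left
  π : (Functor.const I).obj W ⟶ D
  isLimit : IsLimit ((Scheme.ProEt.forget X ⋙ CategoryTheory.Over.forget X).mapCone (Cone.mk W π))
  fac : ∀ i, π.app i ≫ q.app i = g

attribute [instance] Pres.cat Pres.cofiltered

theorem nonempty_pres (h : IndEt g.left) : Nonempty (Pres g) := by
  obtain ⟨J, _, _, R, t, s, hs, hts⟩ := h
  let q₀ : ∀ j, Spec (R.obj j) ⟶ P.left := fun j => Spec.map (t.app j) ≫ P.left.isoSpec.inv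
  haveI hq : ∀ j, Etale (q₀ j) := fun j => by
    haveI : Etale (Spec.map (t.app j)) := (HasRingHomProperty.Spec_iff (P := @Etale)).2 (hts j).1
    exact inferInstanceAs (Etale (Spec.map (t.app j) ≫ P.left.isoSpec.inv))
  haveI : WeaklyEtale P.hom := P.prop
  haveI : ∀ j, WeaklyEtale (q₀ j ≫ P.hom) := fun j => by
    haveI : WeaklyEtale (q₀ j) := inferInstance
    infer_instance
  have hnat : ∀ {j k : J} (φ : j ⟶ k), Spec.map (R.map φ) ≫ q₀ j = q₀ k := fun {j k} φ => by
    have := t.naturality φ
    simp only [Functor.const_obj_obj, Functor.const_obj_map, Category.id_comp] at this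
    show Spec.map (R.map φ) ≫ Spec.map (t.app j) ≫ _ = Spec.map (t.app k) ≫ _
    rw [← Category.assoc, ← Spec.map_comp, ← this]
  let D : Jᵒᵖ ⥤ X.ProEt :=
    { obj := fun j => Scheme.ProEt.mk (q₀ j.unop ≫ P.hom)
      map := fun {j k} φ => MorphismProperty.Over.homMk (Spec.map (R.map φ.unop)) (by
        show Spec.map _ ≫ q₀ _ ≫ P.hom = q₀ _ ≫ P.hom
        rw [← Category.assoc, hnat]) trivial
      map_id := fun j => (Scheme.ProEt.forget X ⋙ CategoryTheory.Over.forget X).map_injective (by
        show Spec.map (R.map (𝟙 j.unop)) = 𝟙 (Spec (R.obj j.unop))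
        rw [R.map_id, Spec.map_id])
      map_comp := fun {j k l} φ ψ => (Scheme.ProEt.forget X ⋙ CategoryTheory.Over.forget X).map_injective (by
        show Spec.map (R.map (ψ.unop ≫ φ.unop)) = Spec.map (R.map φ.unop) ≫ Spec.map (R.map ψ.unop)
        rw [R.map_comp, Spec.map_comp]) }
  have hfac : ∀ j, W.left.isoSpec.hom ≫ Spec.map (s.app j) ≫ q₀ j = g.left := fun j => by
    show W.left.isoSpec.hom ≫ Spec.map (s.app j) ≫ Spec.map (t.app j) ≫ P.left.isoSpec.inv = _
    rw [← Spec.map_comp_assoc, (hts j).2, ← Category.assoc, Scheme.isoSpec_hom_naturality,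
      Category.assoc, Iso.hom_inv_id, Category.comp_id]
  let π : (Functor.const Jᵒᵖ).obj W ⟶ D :=
    { app := fun j => MorphismProperty.Over.homMk (W.left.isoSpec.hom ≫ Spec.map (s.app j.unop)) (by
        show (W.left.isoSpec.hom ≫ Spec.map (s.app j.unop)) ≫ q₀ _ ≫ P.hom = W.hom
        rw [← Category.assoc, Category.assoc W.left.isoSpec.hom, hfac]
        exact CategoryTheory.Over.w g.hom) trivial
      naturality := fun j k φ => (Scheme.ProEt.forget X ⋙ CategoryTheory.Over.forget X).map_injective (by
        have := s.naturality φ.unop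
        simp only [Functor.const_obj_obj, Functor.const_obj_map, Category.comp_id] at this
        show 𝟙 W.left ≫ W.left.isoSpec.hom ≫ Spec.map (s.app k.unop) =
          (W.left.isoSpec.hom ≫ Spec.map (s.app j.unop)) ≫ Spec.map (R.map φ.unop)
        rw [Category.id_comp, Category.assoc, ← Spec.map_comp, this]) }
  let q : D ⟶ (Functor.const Jᵒᵖ).obj P :=
    { app := fun j => MorphismProperty.Over.homMk (q₀ j.unop) rfl trivial
      naturality := fun j k φ => (Scheme.ProEt.forget X ⋙ CategoryTheory.Over.forget X).map_injective (by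
        show Spec.map (R.map φ.unop) ≫ q₀ k.unop = q₀ j.unop ≫ 𝟙 P.left
        rw [hnat, Category.comp_id]) }
  refine ⟨⟨Jᵒᵖ, D, q, fun j => inferInstanceAs (IsAffine (Spec (R.obj j.unop))), fun j => hq _, π, ?_,
    fun j => (Scheme.ProEt.forget X ⋙ CategoryTheory.Over.forget X).map_injective ?_⟩⟩
  · exact IsLimit.ofIsoLimit (isLimitOfPreserves Scheme.Spec hs.op)
      (Cone.ext W.left.isoSpec.symm fun j => by
        show Spec.map (s.app j.unop) = W.left.isoSpec.inv ≫ W.left.isoSpec.hom ≫ Spec.map (s.app j.unop)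
        rw [Iso.inv_hom_id_assoc])
  · show (W.left.isoSpec.hom ≫ Spec.map (s.app j.unop)) ≫ q₀ j.unop = g.left
    rw [Category.assoc]
    exact hfac _

end Pres

end Groth.Agent.EtCmp
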