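import Groth.Agent.HenselLib.AlgResidue
import Groth.Agent.HenselLib.IndZariskiEtale
import Groth.Agent.S0692
import Groth.Agent.S0700
import Groth.Agent.HenselLib.BijAtGen
import Groth.Agent.S0734
import Groth.Agent.S7127
import Groth.Agent.S1974

/-!
# Weakly étale algebras are ind-étale after an ind-étale faithfully flat extension
-/

set_option autoImplicit false
set_option linter.all false

universe u

namespace Groth.Agent.EtCmp

theorem algebraicResidueExtensions_of_weaklyEtale {A B : Type u} [CommRing A] [CommRing B] [Algebra A B]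
    [Algebra.WeaklyEtale A B] : ProEtW.AlgebraicResidueExtensions A B := by
  intro q _
  let p := q.comap (algebraMap A B)
  haveI : q.LiesOver p := ⟨rfl⟩
  letI : Algebra (Localization.AtPrime p) (Localization.AtPrime q) :=
    Localization.AtPrime.algebraOfLiesOver p q
  haveI := S1974.result A B p q
  letI : Algebra (A ⧸ p) q.ResidueField :=
    ((algebraMap p.ResidueField q.ResidueField).comp (algebraMap (A ⧸ p) p.ResidueField)).toAlgebra
  haveI : IsScalarTower (A ⧸ p) p.ResidueField q.ResidueField := IsScalarTower.of_algebraMap_eq' rfl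
  refine ⟨fun x => ?_⟩
  obtain ⟨b, rfl⟩ := Ideal.Quotient.mk_surjective x
  have h2 : IsAlgebraic (A ⧸ p) (algebraMap B q.ResidueField b) :=
    (IsFractionRing.isAlgebraic_iff (A ⧸ p) p.ResidueField q.ResidueField).2
      (Algebra.IsAlgebraic.isAlgebraic _)
  refine (isAlgebraic_algHom_iff
    ({ algebraMap (B ⧸ q) q.ResidueField with commutes' := fun r => ?_ } :
      B ⧸ q →ₐ[A ⧸ p] q.ResidueField) (Ideal.injective_algebraMap_quotient_residueField q)).1 ?_
  · obtain ⟨a, rfl⟩ := Ideal.Quotient.mk_surjective r
    show algebraMap (B ⧸ q) q.ResidueField (Ideal.Quotient.mk q (algebraMap A B a)) = _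
    rw [Ideal.algebraMap_quotient_residueField_mk, IsScalarTower.algebraMap_apply (A ⧸ p) p.ResidueField q.ResidueField,
      Ideal.algebraMap_quotient_residueField_mk, ← IsScalarTower.algebraMap_apply,
      ← IsScalarTower.algebraMap_apply]
  · exact h2

/-- A weakly étale map of w-local rings, w-local on spectra, with strictly henselian local rings at the
closed points of the base identifies local rings. -/
theorem identifiesLocalRings_of_wLocal {C D : Type u} [CommRing C] [CommRing D] [Algebra C D]
    [Algebra.WeaklyEtale C D] (hmap : ProEtW.IsWLocalMap (PrimeSpectrum.comap (algebraMap C D)))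
    (hC : ∀ (m : Ideal C) [m.IsMaximal], EtCoh.IsStrictlyHenselianLocalRing (Localization.AtPrime m)) :
    EtPBC.IdentifiesLocalRings C D := by
  intro q
  obtain ⟨M, hM, hqM⟩ := Ideal.exists_le_maximal q.asIdeal q.2.ne_top
  let c : PrimeSpectrum D := ⟨M, hM.isPrime⟩
  have h := hmap.2 c ((PrimeSpectrum.isClosed_singleton_iff_isMaximal _).2 hM)
  haveI : (c.asIdeal.comap (algebraMap C D)).IsMaximal :=
    (PrimeSpectrum.isClosed_singleton_iff_isMaximal _).1 h
  exact HenselLib.WCtr.bijAt_of_le (c := c) hqM (HenselLib.WCtr.bijAt_of_weaklyEtale c (hC _))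

/-- A weakly étale algebra becomes ind-étale after an ind-étale faithfully flat extension. -/
theorem exists_indEtale_cover (A B : Type u) [CommRing A] [CommRing B] [Algebra A B]
    [Algebra.WeaklyEtale A B] :
    ∃ (D : Type u) (_ : CommRing D) (_ : Algebra B D) (_ : Algebra A D) (_ : IsScalarTower A B D),
      Module.FaithfullyFlat B D ∧ EtPBC.IsIndEtale B D ∧ EtPBC.IsIndEtale A D := by
  obtain ⟨C, D, _, _, _, _, _, _, _, _, -, hAC, hBDff, hBD, hC, hD, hmap, -, -, -, hsh⟩ :=
    S0692.result A B algebraicResidueExtensions_of_weaklyEtale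
  haveI := HenselLib.IndEt.weaklyEtale A C hAC
  haveI := HenselLib.IndEt.weaklyEtale B D hBD
  haveI : Algebra.WeaklyEtale A D := Algebra.WeaklyEtale.trans A B D
  haveI := S7127.result A C D
  refine ⟨D, inferInstance, inferInstance, inferInstance, inferInstance, hBDff, hBD, ?_⟩
  exact S0734.result A C D hAC (HenselLib.IndEt.indEtale_of_indZariski
    (S0700.result C D (identifiesLocalRings_of_wLocal hmap hsh) hC hD hmap))

end Groth.Agent.EtCmp
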