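import Groth.Agent.EtCmp.Acyclic
import Groth.Agent.EtCmp.WEtRing
import Groth.Agent.ProEtWC.Cover

/-!
# The affine ind-étale objects form a basis of the small pro-étale site
-/

set_option autoImplicit false
set_option linter.all false
set_option backward.isDefEq.respectTransparency.types false
set_option backward.isDefEq.respectTransparency false
set_option synthInstance.maxHeartbeats 400000
set_option maxHeartbeats 1000000

universe u

open CategoryTheory Limits AlgebraicGeometry Opposite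

namespace Groth.Agent.EtCmp

theorem indEt_specMap {W : Scheme.{u}} [IsAffine W] {T : CommRingCat.{u}} (r : Γ(W, ⊤) ⟶ T)
    (hr : MorphismProperty.ind.{u} HenselLib.IndEt.etaleMP r) : IndEt (Spec.map r ≫ W.isoSpec.inv) := by
  refine ((MorphismProperty.ind.{u} HenselLib.IndEt.etaleMP).arrow_mk_iso_iff ?_).1 hr
  refine Arrow.isoMk (Iso.refl _) (Scheme.ΓSpecIso T).symm ?_
  show 𝟙 _ ≫ (Spec.map r ≫ W.isoSpec.inv).appTop = r ≫ (Scheme.ΓSpecIso T).inv
  rw [Category.id_comp, Scheme.Hom.comp_appTop, Scheme.ΓSpecIso_inv_naturality]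
  congr 1
  show W.isoSpec.inv.appTop = _
  rw [← cancel_mono (Scheme.ΓSpecIso Γ(W, ⊤)).hom, Iso.inv_hom_id, ← Scheme.toSpecΓ_appTop,
    ← Scheme.Hom.comp_appTop]
  show (W.isoSpec.hom ≫ W.isoSpec.inv).appTop = _
  rw [Iso.hom_inv_id, Scheme.Hom.id_appTop]

/-- A weakly étale morphism of affine schemes is dominated by an ind-étale surjection with ind-étale
composite. -/
theorem exists_indEt_cover {A B : Scheme.{u}} [IsAffine A] [IsAffine B] (g : A ⟶ B) [WeaklyEtale g] :
    ∃ (V : Scheme.{u}) (a : V ⟶ A), IsAffine V ∧ WeaklyEtale a ∧ Function.Surjective a ∧ IndEt a ∧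
      IndEt (a ≫ g) := by
  letI : Algebra Γ(B, ⊤) Γ(A, ⊤) := g.appTop.hom.toAlgebra
  haveI : Algebra.WeaklyEtale Γ(B, ⊤) Γ(A, ⊤) := by
    rw [← SchMor12.weaklyEtale_SpecMap_iff]
    show WeaklyEtale (Spec.map g.appTop)
    have e : Spec.map g.appTop = A.isoSpec.inv ≫ g ≫ B.isoSpec.hom := by
      rw [← Scheme.isoSpec_hom_naturality, Iso.inv_hom_id_assoc]
    rw [e]
    infer_instance
  obtain ⟨D, _, _, _, _, hff, hBD, hAD⟩ := exists_indEtale_cover Γ(B, ⊤) Γ(A, ⊤)
  let r : Γ(A, ⊤) ⟶ CommRingCat.of D := CommRingCat.ofHom (algebraMap Γ(A, ⊤) D)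
  haveI : WeaklyEtale (Spec.map r) :=
    (SchMor12.weaklyEtale_SpecMap_iff Γ(A, ⊤) D).2 (HenselLib.IndEt.weaklyEtale _ _ hBD)
  refine ⟨Spec (CommRingCat.of D), Spec.map r ≫ A.isoSpec.inv, inferInstance, inferInstance,
    fun x => ?_, indEt_specMap r ((HenselLib.IndEt.isIndEtale_iff_ind _ _).1 hBD), ?_⟩
  · obtain ⟨z, hz⟩ := PrimeSpectrum.comap_surjective_of_faithfullyFlat (A := Γ(A, ⊤)) (B := D)
      (A.isoSpec.hom x)
    refine ⟨z, ?_⟩
    show A.isoSpec.inv (Spec.map r z) = x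
    have h1 : Spec.map r z = A.isoSpec.hom x := hz
    rw [h1, ← Scheme.Hom.comp_apply, Iso.hom_inv_id]
    rfl
  · have e : (Spec.map r ≫ A.isoSpec.inv) ≫ g = Spec.map (g.appTop ≫ r) ≫ B.isoSpec.inv := by
      rw [Category.assoc, ← Scheme.isoSpec_inv_naturality, Spec.map_comp, Category.assoc]
    rw [e]
    refine indEt_specMap _ ?_
    have h2 : g.appTop ≫ r = CommRingCat.ofHom (algebraMap Γ(B, ⊤) D) := by
      ext a
      exact (IsScalarTower.algebraMap_apply Γ(B, ⊤) Γ(A, ⊤) D a).symm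
    rw [h2]
    exact (HenselLib.IndEt.isIndEtale_iff_ind _ _).1 hAD

variable {X : Scheme.{u}}

/-- Every object of the small pro-étale site is covered by affine ind-étale objects. -/
theorem exists_inB_cover (U : X.ProEt) :
    ∃ (ι : Type u) (V : ι → X.ProEt) (g : ∀ i, V i ⟶ U),
      Sieve.generate (Presieve.ofArrows V g) ∈ Scheme.ProEt.topology X U ∧ ∀ i, InB (V i) := by
  have h : ∀ u : U.left, ∃ (Y₀ : X.Opens) (O : U.left.Opens),
      IsAffineOpen Y₀ ∧ IsAffineOpen O ∧ u ∈ O ∧ O ≤ U.hom ⁻¹ᵁ Y₀ := by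
    intro u
    obtain ⟨Y₀, hY, huY, -⟩ :=
      exists_isAffineOpen_mem_and_subset (X := X) (x := U.hom u) (U := ⊤) trivial
    obtain ⟨O, hO, huO, hle⟩ :=
      exists_isAffineOpen_mem_and_subset (X := U.left) (x := u) (U := U.hom ⁻¹ᵁ Y₀) huY
    exact ⟨Y₀, O, hY, hO, huO, hle⟩
  choose Y₀ O hY hO huO hle using h
  haveI : ∀ u, IsAffine (Y₀ u).toScheme := hY
  haveI : ∀ u, IsAffine (O u).toScheme := hO
  haveI : WeaklyEtale U.hom := U.prop
  let r : ∀ u, (O u).toScheme ⟶ (Y₀ u).toScheme := fun u => U.hom.resLE (Y₀ u) (O u) (hle u)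
  have hr : ∀ u, r u ≫ (Y₀ u).ι = (O u).ι ≫ U.hom := fun u => U.hom.resLE_comp_ι (hle u)
  haveI : ∀ u, WeaklyEtale (r u) := fun u => by
    haveI : WeaklyEtale (r u ≫ (Y₀ u).ι) := by rw [hr u]; infer_instance
    exact MorphismProperty.of_postcomp (W := @WeaklyEtale) (W' := @WeaklyEtale) (r u) (Y₀ u).ι inferInstance ‹_›
  choose V a hV haw has hai hag using fun u => exists_indEt_cover (r u)
  haveI : ∀ u, WeaklyEtale (a u) := haw
  let W : U.left → X.ProEt := fun u => Scheme.ProEt.mk ((O u).ι ≫ U.hom)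
  let w : ∀ u, W u ⟶ U := fun u => MorphismProperty.Over.homMk (O u).ι rfl trivial
  let V' : U.left → X.ProEt := fun u => Scheme.ProEt.mk (a u ≫ (O u).ι ≫ U.hom)
  let g : ∀ u, V' u ⟶ W u := fun u => MorphismProperty.Over.homMk (a u) rfl trivial
  refine ⟨U.left, V', fun u => g u ≫ w u, ?_, fun u => ?_⟩
  · have hzar : Presieve.ofArrows W w ∈ Scheme.ProEt.precoverage X U := by
      rw [Scheme.ProEt.precoverage, Precoverage.mem_comap_iff, Presieve.map_ofArrows]
      refine Scheme.zariskiPrecoverage_le_propQCPrecoverage _ ?_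
      let E : PreZeroHypercover.{u} U.left := ⟨U.left, fun u => (O u).toScheme, fun u => (O u).ι⟩
      exact (Scheme.presieve₀_mem_precoverage_iff E).2
        ⟨fun x => ⟨x, ⟨⟨x, huO x⟩, rfl⟩⟩, fun u => inferInstanceAs (IsOpenImmersion (O u).ι)⟩
    refine (Scheme.ProEt.topology X).transitive (Precoverage.generate_mem_toGrothendieck hzar) _ ?_
    rintro Z f ⟨_, c, _, ⟨u⟩, rfl⟩
    rw [Sieve.pullback_comp]
    refine (Scheme.ProEt.topology X).pullback_stable c ?_
    haveI : IsAffine (V' u).left := hV u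
    haveI : IsAffine (W u).left := hO u
    refine (Scheme.ProEt.topology X).superset_covering ?_
      (Et18.mem_topology_of_finite (fun _ : PUnit.{1} => V' u) (fun _ => g u)
        fun x => ⟨⟨⟩, has u x⟩)
    rintro T e ⟨_, d, _, ⟨⟩, rfl⟩
    exact ⟨_, d, _, ⟨u⟩, (Category.assoc _ _ _).symm⟩
  · refine ⟨hV u, Scheme.Etale.mk (Y₀ u).ι, MorphismProperty.Over.homMk (a u ≫ r u) ?_ trivial, hY u, hag u⟩
    show (a u ≫ r u) ≫ (Y₀ u).ι = a u ≫ (O u).ι ≫ U.hom
    rw [Category.assoc, hr]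

/-- Morphisms of abelian sheaves surjective on sections over `InB` are epimorphisms. -/
theorem isLocallySurjective_of_inB {F G : ProEtS.AbP X} (φ : F ⟶ G)
    (h : ∀ W : X.ProEt, InB W → Function.Surjective (φ.hom.app (op W))) : Sheaf.IsLocallySurjective φ := by
  refine ⟨fun {U} s => ?_⟩
  obtain ⟨ι, V, g, hcov, hV⟩ := exists_inB_cover U
  refine (Scheme.ProEt.topology X).superset_covering ?_ hcov
  rintro T f ⟨_, c, _, ⟨i⟩, rfl⟩
  refine (Presheaf.imageSieve φ.hom s).downward_closed ?_ c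
  exact h (V i) (hV i) _

theorem epi_of_inB {F G : ProEtS.AbP X} (φ : F ⟶ G)
    (h : ∀ W : X.ProEt, InB W → Function.Surjective (φ.hom.app (op W))) : Epi φ :=
  haveI := isLocallySurjective_of_inB φ h
  (Sheaf.isLocallySurjective_iff_epi' (J := Scheme.ProEt.topology X) AddCommGrpCat.{u + 1} φ).1 inferInstance

/-- Morphisms of abelian sheaves bijective on sections over `InB` are isomorphisms. -/
theorem isIso_of_inB {F G : ProEtS.AbP X} (φ : F ⟶ G)
    (h : ∀ W : X.ProEt, InB W → Function.Bijective (φ.hom.app (op W))) : IsIso φ := by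
  haveI := isLocallySurjective_of_inB φ fun W hW => (h W hW).2
  haveI : Sheaf.IsLocallyInjective φ := ⟨fun {U} x y hxy => by
    obtain ⟨ι, V, g, hcov, hV⟩ := exists_inB_cover U.unop
    refine (Scheme.ProEt.topology X).superset_covering ?_ hcov
    rintro T f ⟨_, c, _, ⟨i⟩, rfl⟩
    refine (Presheaf.equalizerSieve x y).downward_closed ?_ c
    show F.obj.map (g i).op x = F.obj.map (g i).op y
    refine (h (V i) (hV i)).1 ?_
    rw [NatTrans.naturality_apply, NatTrans.naturality_apply, hxy]⟩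
  exact (Sheaf.isLocallyBijective_iff_isIso φ).1 ⟨inferInstance, inferInstance⟩

end Groth.Agent.EtCmp
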